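import Cfsg.Agent.Lib.Char.RelGraph.Orbits

/-!
# Linking relative degrees
-/

set_option autoImplicit false
set_option linter.unusedSectionVars false
set_option linter.style.haveILetI false

namespace Cfsg.Agent.Lib.Char.RelGraph

open Cfsg Cfsg.Agent.Lib Cfsg.Agent.Lib.Char
open Cfsg.Agent.Lib.Char.TwoDegPrime (lf lf_inj cj lf_cj cj_apply cj_prod cj_inv cj_mul cj_one St mem_St)

universe u

variable {G : Type u} [Group G] [Fintype G] {N : Subgroup G} [N.Normal]

theorem cj_pow (g : G) (y : N →* ℂˣ) (m : ℕ) : cj N g (y ^ m) = (cj N g y) ^ m :=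
  MonoidHom.ext fun n => by rw [cj_apply, MonoidHom.pow_apply, MonoidHom.pow_apply, cj_apply]

theorem one_lt_gcd {x y m : ℕ} (hm : m ≠ 1) (hx : m ∣ x) (hy : m ∣ y) (hx0 : 0 < x) :
    1 < Nat.gcd x y := by
  have h1 := Nat.le_of_dvd (Nat.gcd_pos_of_pos_left y hx0) (Nat.dvd_gcd hx hy)
  have h2 : m ≠ 0 := fun h => by subst h; rw [Nat.zero_dvd] at hx; omega
  omega

theorem index_ne_one {H : Subgroup G} (h : H ≠ ⊤) : H.index ≠ 1 :=
  fun e => h (Subgroup.index_eq_one.1 e)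

/-- The linear character as an irreducible one. -/
noncomputable def lirr (l : N →* ℂˣ) : IrrCharacter N := ⟨lf l, isIrrCharacter_linear l⟩

theorem dt_lirr (l : N →* ℂˣ) : dt (lirr l) = l := dt_of_deg_one rfl

theorem eq_lirr {θ : IrrCharacter N} (h : charDegree (θ : N → ℂ) = 1) : θ = lirr (dt θ) := by
  obtain ⟨l, hl⟩ := exists_hom_of_degree_one (isCharacter_of_isIrr θ.2)
    (by rw [apply_one_eq_charDegree (isCharacter_of_isIrr θ.2), h, Nat.cast_one])
  have e : (θ : N → ℂ) = lf l := funext hl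
  rw [dt_of_deg_one e]; exact Subtype.ext e

theorem dt_conj_eq {g : G} {θ : IrrCharacter N} (h : g ∈ inertia N (θ : N → ℂ)) :
    cj N g (dt θ) = dt θ := by
  rw [← dt_conj]; congr 1; exact Subtype.ext h

theorem tw_cancel {l : N →* ℂˣ} {θ θ' : IrrCharacter N} (h : tw l θ = tw l θ') : θ = θ' :=
  Subtype.ext (funext fun n => mul_left_cancel₀ (Units.ne_zero (l n))
    (congrFun (congrArg Subtype.val h) n))

/-- Trivial irreducible. -/
def IsTriv (θ : IrrCharacter N) : Prop := ∀ n, (θ : N → ℂ) n = 1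

theorem deg_data [Fintype N] {φ : IrrCharacter G} {θ : IrrCharacter N}
    (h : classInner (fun n : N => (φ : G → ℂ) n) (θ : N → ℂ) ≠ 0) :
    (inertia N (θ : N → ℂ)).index ∣ charDegree (φ : G → ℂ) ∧
      charDegree (θ : N → ℂ) ∣ charDegree (φ : G → ℂ) := by
  obtain ⟨e, he⟩ := classInner_natCast
    (isCharacter_restrict (isCharacter_of_isIrr φ.2) N) (isCharacter_of_isIrr θ.2)
  have h1 := clifford_degree N φ.2 θ.2 h
  rw [he, apply_one_eq_charDegree (isCharacter_of_isIrr φ.2),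
    apply_one_eq_charDegree (isCharacter_of_isIrr θ.2)] at h1
  have h2 : charDegree (φ : G → ℂ) =
      e * (inertia N (θ : N → ℂ)).index * charDegree (θ : N → ℂ) := by exact_mod_cast h1
  rw [h2]
  exact ⟨(dvd_mul_left _ e).mul_right _, dvd_mul_left _ _⟩

theorem mem_rel [Fintype N] {φ : IrrCharacter G} {θ : IrrCharacter N}
    (h : classInner (fun n : N => (φ : G → ℂ) n) (θ : N → ℂ) ≠ 0) (hθ : ¬ IsTriv θ) :
    charDegree (φ : G → ℂ) ∈ relCharDegrees N := by
  refine ⟨φ, ?_, rfl⟩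
  by_contra hc
  push Not at hc
  have h1 : (fun n : N => (φ : G → ℂ) n) = (φ : G → ℂ) 1 • fun _ : N => (1 : ℂ) := funext fun n => by
    rw [Pi.smul_apply, smul_eq_mul, mul_one, hc n n.2]
  rw [h1, classInner_smul_left, classInner_irr_ne isIrrCharacter_one θ.2 (fun e => hθ fun n =>
    (congrFun e n).symm), mul_zero] at h
  exact h rfl

theorem rel_gt_one (hNG : N ≤ commutator G) {c : ℕ} (hc : c ∈ relCharDegrees N) : 1 < c := by
  obtain ⟨φ, ⟨x, hx, hne⟩, rfl⟩ := hc
  have h0 := charDegree_pos φ.2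
  by_contra h
  have h1 : (φ : G → ℂ) 1 = 1 := by
    rw [apply_one_eq_charDegree (isCharacter_of_isIrr φ.2), show charDegree (φ : G → ℂ) = 1 by omega,
      Nat.cast_one]
  obtain ⟨l, hl⟩ := exists_hom_of_degree_one (isCharacter_of_isIrr φ.2) h1
  exact hne (by rw [hl, hl, map_one, MonoidHom.mem_ker.1 (Abelianization.commutator_subset_ker l (hNG hx))])

theorem exists_under [Fintype N] {φ : IrrCharacter G}
    (h : ∃ x ∈ N, (φ : G → ℂ) x ≠ (φ : G → ℂ) 1) :
    ∃ θ : IrrCharacter N, classInner (fun n : N => (φ : G → ℂ) n) (θ : N → ℂ) ≠ 0 ∧ ¬ IsTriv θ := by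
  obtain ⟨θ, hθ⟩ := exists_constituent (isCharacter_restrict (isCharacter_of_isIrr φ.2) N)
    (fun e => irr_degree_ne_zero φ.2 (congrFun e 1))
  refine ⟨θ, hθ, fun ht => ?_⟩
  obtain ⟨x, hx, hne⟩ := h
  have h' : classInner (fun n : N => (φ : G → ℂ) n) (fun _ => 1) ≠ 0 := by
    rwa [show (θ : N → ℂ) = fun _ => 1 from funext ht] at hθ
  exact hne (CharClifford.eq_degree_of_over_one N φ.2 h' ⟨x, hx⟩)

/-- Chains of relative degrees with common factors. -/
def Lk (N : Subgroup G) : ℕ → ℕ → Prop :=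
  Relation.ReflTransGen fun x y => x ∈ relCharDegrees N ∧ y ∈ relCharDegrees N ∧ 1 < Nat.gcd x y

theorem Lk.symm {a b : ℕ} (h : Lk N a b) : Lk N b a := by
  induction h with
  | refl => exact Relation.ReflTransGen.refl
  | tail _ hs ih => exact Relation.ReflTransGen.head ⟨hs.2.1, hs.1, Nat.gcd_comm _ _ ▸ hs.2.2⟩ ih

theorem lk_of {a b : ℕ} (ha : a ∈ relCharDegrees N) (hb : b ∈ relCharDegrees N)
    (h : 1 < Nat.gcd a b) : Lk N a b := Relation.ReflTransGen.single ⟨ha, hb, h⟩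

theorem pone (y : N →* ℂˣ) : y ^ 1 = y := MonoidHom.ext fun n => by simp [MonoidHom.pow_apply]

theorem opow (a : ℕ) : (1 : N →* ℂˣ) ^ a = 1 := MonoidHom.ext fun n => by simp [MonoidHom.pow_apply]

theorem padd (y : N →* ℂˣ) (a b : ℕ) : y ^ (a + b) = y ^ a * y ^ b :=
  MonoidHom.ext fun n => by simp [MonoidHom.pow_apply, pow_add]

theorem ord_dvd {y : N →* ℂˣ} {a : ℕ} (h : y ^ a = 1) : orderOf y ∣ a :=
  orderOf_dvd_of_pow_eq_one (G := N →* ℂˣ) (MonoidHom.ext fun n => by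
    have h' := DFunLike.congr_fun h n
    simpa [MonoidHom.pow_apply] using h')

theorem pow_of_dvd {y : N →* ℂˣ} {a : ℕ} (h : orderOf y ∣ a) : y ^ a = 1 := MonoidHom.ext fun n => by
  have h' := DFunLike.congr_fun (orderOf_dvd_iff_pow_eq_one.1 h) n
  simpa [MonoidHom.pow_apply] using h'

theorem pow_congr' {y : N →* ℂˣ} {a b : ℕ} (h : a ≡ b [MOD orderOf y]) : y ^ a = y ^ b := by
  have h1 : y ^ orderOf y = 1 := pow_of_dvd dvd_rfl
  have hpt : ∀ n, y n ^ orderOf y = 1 := fun n => by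
    rw [← MonoidHom.pow_apply, h1]; rfl
  refine MonoidHom.ext fun n => ?_
  rw [MonoidHom.pow_apply, MonoidHom.pow_apply, pow_eq_pow_mod a (hpt n), pow_eq_pow_mod b (hpt n), h]

theorem eq_one_of_ord {y : N →* ℂˣ} (h : orderOf y = 1) : y = 1 := by
  rw [← pone y]; exact pow_of_dvd (dvd_of_eq h)

/-- Decomposition into parts of coprime order. -/
theorem exists_parts (x : N →* ℂˣ) {q : ℕ} (hq : q.Prime) :
    ∃ e f k n : ℕ, ¬ q ∣ n ∧ x ^ e * x ^ f = x ∧ (x ^ e) ^ q ^ k = 1 ∧ (x ^ f) ^ n = 1 := by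
  haveI := finite_dual (N := N)
  set o := orderOf x with ho
  have ho0 : o ≠ 0 := (orderOf_pos x).ne'
  set k := o.factorization q
  set n := o / q ^ k
  have hprod : q ^ k * n = o := Nat.ordProj_mul_ordCompl_eq_self o q
  have hn : ¬ q ∣ n := Nat.not_dvd_ordCompl hq ho0
  have hco : (q ^ k).Coprime n := (hq.coprime_iff_not_dvd.2 hn).pow_left k
  obtain ⟨e, he1, he0⟩ := Nat.chineseRemainder hco 1 0
  obtain ⟨f, hf0, hf1⟩ := Nat.chineseRemainder hco 0 1
  refine ⟨e, f, k, n, hn, ?_, ?_, ?_⟩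
  · have h1 : e + f ≡ 1 [MOD q ^ k * n] :=
      (Nat.modEq_and_modEq_iff_modEq_mul hco).1 ⟨he1.add hf0, he0.add hf1⟩
    rw [hprod] at h1
    rw [← padd]
    exact (pow_congr' h1).trans (pone x)
  · rw [pow_pow']
    refine pow_of_dvd ?_
    rw [← ho, ← hprod, mul_comm e]
    exact Nat.mul_dvd_mul_left _ (Nat.modEq_zero_iff_dvd.1 he0)
  · rw [pow_pow']
    refine pow_of_dvd ?_
    rw [← ho, ← hprod]
    exact Nat.mul_dvd_mul_right (Nat.modEq_zero_iff_dvd.1 hf0) _

theorem eq_one_of_coprime_pow {y : N →* ℂˣ} {a b : ℕ} (hab : a.Coprime b) (ha : y ^ a = 1)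
    (hb : y ^ b = 1) : y = 1 := by
  have h1 := ord_dvd ha
  have h2 := ord_dvd hb
  exact eq_one_of_ord (Nat.eq_one_of_dvd_coprimes hab h1 h2)

theorem cancel_pow {y z : N →* ℂˣ} {a b : ℕ} (hab : a.Coprime b) (hy : y ^ b = 1) (hz : z ^ b = 1)
    (h : y ^ a = z ^ a) : y = z := by
  refine eq_of_mul_inv' (eq_one_of_coprime_pow hab (MonoidHom.ext fun n => ?_) (MonoidHom.ext fun n => ?_))
  · have h' : y n ^ a = z n ^ a := by rw [← MonoidHom.pow_apply, h, MonoidHom.pow_apply]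
    simp [MonoidHom.pow_apply, mul_pow, h']
  · have hy' : y n ^ b = 1 := by rw [← MonoidHom.pow_apply, hy]; rfl
    have hz' : z n ^ b = 1 := by rw [← MonoidHom.pow_apply, hz]; rfl
    simp [MonoidHom.pow_apply, mul_pow, hy', hz']

/-- The inertia group of a twist of a canonical character. -/
theorem inert_le {θ₀ : IrrCharacter N} {r n k : ℕ} (hr : r.Prime) (hn : ¬ r ∣ n)
    (hd : ¬ r ∣ charDegree (θ₀ : N → ℂ)) (hβ : (dt θ₀) ^ n = 1) {l : N →* ℂˣ} (hl : l ^ r ^ k = 1)
    {g : G} (hg : g ∈ inertia N (tw l θ₀ : N → ℂ)) :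
    g ∈ inertia N (θ₀ : N → ℂ) ∧ cj N g l = l := by
  have h1 := dt_conj_eq (θ := tw l θ₀) hg
  rw [dt_tw, cj_prod] at h1
  set d := charDegree (θ₀ : N → ℂ)
  have hpt : ∀ y z : N →* ℂˣ, (y * z) ^ n = y ^ n * z ^ n := fun y z =>
    MonoidHom.ext fun m => by simp [MonoidHom.pow_apply, mul_pow]
  have hone : ∀ y : N →* ℂˣ, y * 1 = y := fun y => MonoidHom.ext fun m => by simp
  have h2 := congrArg (fun z : N →* ℂˣ => z ^ n) h1
  simp only [hpt] at h2
  rw [← cj_pow g (dt θ₀), hβ, show cj N g (1 : N →* ℂˣ) = 1 from MonoidHom.ext fun _ => rfl,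
    hone, hone, cj_pow, pow_pow', pow_pow'] at h2
  have hco : (d * n).Coprime (r ^ k) := Nat.Coprime.pow_right k ((hr.coprime_iff_not_dvd.2
    fun h => (hr.dvd_mul.1 h).elim hd hn).symm)
  have hcj : cj N g l = l := cancel_pow hco (by
    rw [← cj_pow, hl]; exact MonoidHom.ext fun _ => rfl) hl h2
  refine ⟨?_, hcj⟩
  have h3 : cθ g (tw l θ₀) = tw l θ₀ := Subtype.ext hg
  rw [cθ_tw, hcj] at h3
  exact congrArg Subtype.val (tw_cancel h3)

/-- The key linking lemma. -/
theorem link [Fintype N] (hNG : N ≤ commutator G) {r : ℕ} (hr : r.Prime)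
    (W : Subgroup (N →* ℂˣ)) (hWinv : ∀ g : G, ∀ z ∈ W, cj N g z ∈ W) (hWexp : ∀ z ∈ W, z ^ r = 1)
    (hWmin : ∀ S : Subgroup (N →* ℂˣ), S ≤ W → (∀ g : G, ∀ z ∈ S, cj N g z ∈ S) → S ≠ ⊥ → S = W)
    {lam : N →* ℂˣ} (hlam : lam ∈ W) (hlam1 : lam ≠ 1) {φb : IrrCharacter G}
    (hb : classInner (fun n : N => (φb : G → ℂ) n) (lirr lam : N → ℂ) ≠ 0)
    {a : ℕ} (ha : a ∈ relCharDegrees N) (hra : ¬ r ∣ a) : Lk N a (charDegree (φb : G → ℂ)) := by
  classical
  obtain ⟨χ, hχN, hχ⟩ := ha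
  obtain ⟨θ, hθ, hθt⟩ := exists_under hχN
  have haR : a ∈ relCharDegrees N := ⟨χ, hχN, hχ⟩
  have ha0 : 0 < a := hχ ▸ charDegree_pos χ.2
  have hlamr : lam ^ r ^ 1 = 1 := by rw [pow_one]; exact hWexp lam hlam
  have htriv : ∀ l : N →* ℂˣ, l ≠ 1 → ¬ IsTriv (lirr l) := fun l hl h =>
    hl (MonoidHom.ext fun n => Units.ext (h n))
  set b := charDegree (φb : G → ℂ)
  have hbR : b ∈ relCharDegrees N := mem_rel hb (htriv lam hlam1)
  have hb0 : 0 < b := charDegree_pos φb.2
  set d := charDegree (θ : N → ℂ) with hd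
  obtain ⟨hIa, hda⟩ := deg_data hθ
  rw [hχ] at hIa hda
  have hrd : ¬ r ∣ d := fun h => hra (h.trans hda)
  -- the canonical twist
  obtain ⟨e, f, k, n, hn, hef, hxe, hxf⟩ := exists_parts (dt θ) hr
  obtain ⟨m, hm0, hm1⟩ := Nat.chineseRemainder
    ((hr.coprime_iff_not_dvd.2 hrd).symm.pow_right k : d.Coprime (r ^ k)) 0 1
  obtain ⟨j, rfl⟩ := Nat.modEq_zero_iff_dvd.1 hm0
  set ρ : N →* ℂˣ := ((dt θ) ^ e) ^ j with hρ
  have hρr : ρ ^ r ^ k = 1 := by
    rw [hρ, pow_pow', mul_comm, ← pow_pow', hxe, opow]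
  have hρd : ρ ^ d = (dt θ) ^ e := by
    rw [hρ, pow_pow', mul_comm]
    conv_rhs => rw [← pone ((dt θ) ^ e)]
    exact pow_congr' (hm1.of_dvd (ord_dvd hxe))
  set θ₀ := tw ρ⁻¹ θ with hθ₀
  have hθeq : θ = tw ρ θ₀ := by
    rw [hθ₀, tw_tw]
    conv_lhs => rw [← tw_one θ]
    congr 1
    exact MonoidHom.ext fun x => by simp
  have hd0 : charDegree (θ₀ : N → ℂ) = d := deg_tw _ _
  have hβ : dt θ₀ = (dt θ) ^ f := by
    rw [hθ₀, dt_tw, ← hd]
    refine MonoidHom.ext fun x => ?_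
    have h1 : ρ x ^ d = dt θ x ^ e := by
      rw [← MonoidHom.pow_apply, hρd, MonoidHom.pow_apply]
    have h2 : dt θ x ^ e * dt θ x ^ f = dt θ x := by
      rw [← MonoidHom.pow_apply, ← MonoidHom.pow_apply, ← MonoidHom.mul_apply, hef]
    simp only [MonoidHom.mul_apply, MonoidHom.pow_apply, MonoidHom.inv_apply, inv_pow]
    rw [h1, inv_mul_eq_iff_eq_mul, h2]
  have hθ₀n : (dt θ₀) ^ n = 1 := by rw [hβ]; exact hxf
  have hI0 : inertia N (θ : N → ℂ) ≤ inertia N (θ₀ : N → ℂ) := fun g hg =>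
    (inert_le (l := ρ) hr hn (hd0 ▸ hrd) hθ₀n hρr (hθeq ▸ hg)).1
  have hI0a : (inertia N (θ₀ : N → ℂ)).index ∣ a := (Subgroup.index_dvd_of_le hI0).trans hIa
  -- a prime from the canonical determinant
  have hβprime : d = 1 → inertia N (θ₀ : N → ℂ) = ⊤ → dt θ₀ ≠ 1 →
      ∃ q M k', q.Prime ∧ q ∣ a ∧ r ∣ M ∧ (∀ g, cj N g ((dt θ₀) ^ M) = (dt θ₀) ^ M) ∧
        ((dt θ₀) ^ M) ^ q ^ k' = 1 ∧ (dt θ₀) ^ M ≠ 1 := by
    intro hd1 hI hne
    haveI := finite_dual (N := N)
    obtain ⟨q, hq, hqd⟩ := Nat.exists_prime_and_dvd (fun h => hne (eq_one_of_ord h))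
    have hqn : q ∣ n := hqd.trans (ord_dvd hθ₀n)
    have hqr : q ≠ r := fun h => hn (h ▸ hqn)
    obtain ⟨e', f', k', n', hn', hef', hxe', hxf'⟩ := exists_parts (dt θ₀) hq
    have hinv : ∀ g, cj N g ((dt θ₀) ^ (e' * r)) = (dt θ₀) ^ (e' * r) := fun g => by
      rw [cj_pow, dt_conj_eq (show g ∈ inertia N (θ₀ : N → ℂ) by rw [hI]; trivial)]
    have hord : ((dt θ₀) ^ (e' * r)) ^ q ^ k' = 1 := by
      rw [← pow_pow', pow_pow', mul_comm, ← pow_pow', hxe', opow]
    have hne' : (dt θ₀) ^ (e' * r) ≠ 1 := by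
      intro h
      rw [← pow_pow'] at h
      have he1 : (dt θ₀) ^ e' = 1 :=
        eq_one_of_coprime_pow (((Nat.coprime_primes hr hq).2 hqr.symm).pow_right k') h hxe'
      have h3 : (dt θ₀) ^ n' = 1 := by
        have h4 : dt θ₀ = (dt θ₀) ^ f' := by
          conv_lhs => rw [← hef', he1]
          exact MonoidHom.ext fun x => by simp
        rw [h4]; exact hxf'
      exact hn' (hqd.trans (ord_dvd h3))
    refine ⟨q, e' * r, k', hq, ?_, dvd_mul_left r e', hinv, hord, hne'⟩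
    have hpow : (dt θ) ^ (f * (e' * r)) = (dt θ₀) ^ (e' * r) := by rw [hβ, pow_pow']
    exact hχ ▸ dvd_of_over_linear hNG (x := dt θ) (θ := θ) (φ := χ) (m := f * (e' * r)) rfl hθ hq
      (fun g => by rw [hpow]; exact hinv g) (by rw [hpow]; exact hord) (by rw [hpow]; exact hne')
  have hlin : ∀ {φ : IrrCharacter G} {θ' : IrrCharacter N},
      classInner (fun x : N => (φ : G → ℂ) x) (θ' : N → ℂ) ≠ 0 → ∀ (q M k' : ℕ), q.Prime →
      (dt θ') ^ M = (dt θ₀) ^ M → (∀ g, cj N g ((dt θ₀) ^ M) = (dt θ₀) ^ M) →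
      ((dt θ₀) ^ M) ^ q ^ k' = 1 → (dt θ₀) ^ M ≠ 1 → q ∣ charDegree (φ : G → ℂ) :=
    fun hov q M k' hq hM hi ho hn0 => dvd_of_over_linear hNG rfl hov hq
      (fun g => by rw [hM]; exact hi g) (by rw [hM]; exact ho) (by rw [hM]; exact hn0)
  have hmulM : ∀ (y : N →* ℂˣ) (M : ℕ), r ∣ M → (lam * y) ^ M = y ^ M := by
    intro y M ⟨c, hc⟩
    subst hc
    refine MonoidHom.ext fun x => ?_
    have h : lam x ^ r = 1 := by rw [← MonoidHom.pow_apply, hWexp lam hlam]; rfl
    simp [MonoidHom.pow_apply, mul_pow, pow_mul, h]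
  by_cases hJ : St N lam = ⊤
  · -- `lam` is invariant
    have hinvl : ∀ g : G, cj N g lam = lam := fun g => (mem_St N).1 (hJ ▸ Subgroup.mem_top g)
    have hrb : r ∣ b := dvd_of_over_linear hNG (m := 1) (k := 1) (dt_lirr lam) hb hr
      (fun g => by rw [pone]; exact hinvl g) (by rw [pone]; exact hlamr)
      (by rw [pone]; exact hlam1)
    obtain ⟨φ, hφ, -⟩ := exists_irr_over' (tw lam θ)
    have hIeq : inertia N (tw lam θ : N → ℂ) = inertia N (θ : N → ℂ) := by
      ext g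
      constructor
      · intro hg
        have h3 : cθ g (tw lam θ) = tw lam θ := Subtype.ext hg
        rw [cθ_tw, hinvl] at h3
        exact congrArg Subtype.val (tw_cancel h3)
      · intro hg
        have h4 : cθ g θ = θ := Subtype.ext hg
        show conjChar N g (tw lam θ : N → ℂ) = _
        exact congrArg Subtype.val (show cθ g (tw lam θ) = tw lam θ by rw [cθ_tw, hinvl, h4])
    set c := charDegree (φ : G → ℂ) with hc
    have hc0 : 0 < c := charDegree_pos φ.2
    have hrc : r ∣ c := by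
      by_contra hnd
      haveI := Fact.mk hr
      obtain ⟨H, hNH, hHI, hk', hHq⟩ := exists_step (inertia N (θ : N → ℂ))
        (le_inertia N (isClassFunction_of_isIrr θ.2)) (q := r)
      have hH := hHq fun h => hra (h.trans hIa)
      have e1 := ext_dt hθ hr (hχ ▸ hra) hNH hHI hk'
      have e2 := ext_dt hφ hr hnd hNH (hIeq ▸ hHI) hk'
      have e3 := e2.div e1
      have h5 : dt (tw lam θ) / dt θ = lam ^ d := MonoidHom.ext fun x => by simp [dt_tw, ← hd]
      rw [h5] at e3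
      have h6 := trivial_of_ext hNG (fun g => by rw [cj_pow, hinvl]) hr (k := 1) (by
        rw [pow_pow', mul_comm, ← pow_pow', hlamr, opow]) hH e3
      exact hlam1 (eq_one_of_coprime_pow (Nat.Coprime.symm (hr.coprime_iff_not_dvd.2 hrd)) h6
        (hWexp lam hlam))
    have hcR : c ∈ relCharDegrees N := mem_rel hφ fun ht => by
      have hd1 : d = 1 := by
        rw [hd, ← deg_tw lam θ, show (tw lam θ : N → ℂ) = fun _ => 1 from funext ht, charDegree_one]
      have h7 : dt (tw lam θ) = 1 := dt_of_deg_one (funext fun x => by rw [ht x]; simp [lf])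
      rw [dt_tw, ← hd, hd1, pone] at h7
      have h8 : dt θ = lam⁻¹ := MonoidHom.ext fun x => by
        have := DFunLike.congr_fun h7 x
        simp only [MonoidHom.mul_apply, MonoidHom.one_apply] at this
        rw [MonoidHom.inv_apply]; exact eq_inv_of_mul_eq_one_right this
      have h9 : (dt θ) ^ 1 = lam⁻¹ := by rw [pone]; exact h8
      refine hra (hχ ▸ dvd_of_over_linear hNG (m := 1) (k := 1) rfl hθ hr ?_ ?_ ?_)
      · intro g; rw [h9, cj_inv, hinvl]
      · rw [h9]; exact MonoidHom.ext fun x => by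
          have h : lam x ^ r ^ 1 = 1 := by rw [← MonoidHom.pow_apply, hlamr]; rfl
          simp only [MonoidHom.pow_apply, MonoidHom.inv_apply, inv_pow, h, inv_one, MonoidHom.one_apply]
      · rw [h9]; intro h
        exact hlam1 (MonoidHom.ext fun x => by
          have := DFunLike.congr_fun h x
          simpa using this)
    have hac : 1 < Nat.gcd a c := by
      obtain ⟨hIc, hdc⟩ := deg_data hφ
      rw [hIeq, ← hc] at hIc
      rw [deg_tw, ← hd, ← hc] at hdc
      by_cases hd1 : d = 1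
      · by_cases hIt : inertia N (θ : N → ℂ) = ⊤
        · have hI0t : inertia N (θ₀ : N → ℂ) = ⊤ := top_le_iff.1 (hIt ▸ hI0)
          have hne : dt θ₀ ≠ 1 := by
            intro h
            have h4 : dt θ = (dt θ) ^ e := by
              conv_lhs => rw [← hef, ← hβ, h]
              exact MonoidHom.ext fun x => by simp
            refine hra (hχ ▸ dvd_of_over_linear hNG (m := 1) (k := k) rfl hθ hr ?_ ?_ ?_)
            · intro g; rw [pone]; exact dt_conj_eq (hIt ▸ Subgroup.mem_top g)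
            · rw [pone, h4]; exact hxe
            · rw [pone]; intro h'
              exact hθt fun x => by
                rw [eq_lirr hd1, h']; simp [lirr, lf]
          obtain ⟨q, M, k', hq, hqa, hrM, hi, ho, hn0⟩ := hβprime hd1 hI0t hne
          refine one_lt_gcd hq.ne_one hqa ?_ ha0
          -- the same power for the twist
          have hpow : (dt (tw lam θ)) ^ (f * M) = (dt θ₀) ^ M := by
            rw [dt_tw, ← hd, hd1, pone, hmulM _ _ (dvd_mul_of_dvd_right hrM f), hβ, pow_pow']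
          exact dvd_of_over_linear hNG rfl hφ hq (fun g => by rw [hpow]; exact hi g)
            (by rw [hpow]; exact ho) (by rw [hpow]; exact hn0)
        · exact one_lt_gcd (index_ne_one hIt) hIa hIc ha0
      · exact one_lt_gcd hd1 hda hdc ha0
    exact (lk_of haR hcR hac).trans (lk_of hcR hbR (one_lt_gcd hr.ne_one hrc hrb hc0))
  · -- `lam` is moved
    have hJb : (St N lam).index ∣ b := (deg_data hb).1
    by_cases hcase : d = 1 ∧ inertia N (θ₀ : N → ℂ) = ⊤ ∧ dt θ₀ = 1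
    · obtain ⟨hd1, hI0t, hβ1⟩ := hcase
      by_cases hab : a.Coprime b
      swap
      · exact lk_of haR hbR (lt_of_le_of_ne (Nat.gcd_pos_of_pos_left b ha0) (Ne.symm hab))
      have hθ₀l : θ₀ = lirr 1 := by rw [eq_lirr (hd0.trans hd1), hβ1]
      have hθl : θ = lirr ρ := by
        rw [hθeq, hθ₀l]; exact Subtype.ext (funext fun x => by simp [tw, lirr, lf])
      have hρ1 : ρ ≠ 1 := fun h => hθt (hθl ▸ h ▸ fun x => by simp [lirr, lf])
      have hρne : St N ρ ≠ ⊤ := fun h => by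
        refine hra (hχ ▸ dvd_of_over_linear hNG (m := 1) (k := k) (hθl ▸ dt_lirr ρ) hθ hr ?_ ?_ ?_)
        · intro g; rw [pone]; exact (mem_St N).1 (h ▸ Subgroup.mem_top g)
        · rw [pone]; exact hρr
        · rw [pone]; exact hρ1
      have hta : (St N ρ).index ∣ a := by rw [hθl] at hIa; exact hIa
      haveI := Fact.mk hr
      obtain ⟨H, hNH, hHI, hk', hHq⟩ := exists_step (inertia N (θ : N → ℂ))
        (le_inertia N (isClassFunction_of_isIrr θ.2)) (q := r)
      have hext := ext_dt hθ hr (hχ ▸ hra) hNH hHI hk'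
      rw [show dt θ = ρ by rw [hθl, dt_lirr]] at hext
      obtain ⟨h1, h2⟩ := not_coprime_product hNG hr W hWinv hWexp hWmin hlam hlam1 hρr
        ((hab.coprime_dvd_left hta).coprime_dvd_right hJb) (fun h => hra (h.trans hta)) hρne hJ
        (hHq fun h => hra (h.trans hIa)) hext
      obtain ⟨φ, hφ, -⟩ := exists_irr_over' (lirr (ρ * lam))
      have hIc : (St N (ρ * lam)).index ∣ charDegree (φ : G → ℂ) := (deg_data hφ).1
      have hcR : charDegree (φ : G → ℂ) ∈ relCharDegrees N := mem_rel hφ (htriv _ fun h => h1 (by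
        rw [h, show St N (1 : N →* ℂˣ) = ⊤ from top_le_iff.1 fun g _ => (mem_St N).2
          (MonoidHom.ext fun _ => rfl), Subgroup.index_top]
        exact Nat.coprime_one_left _))
      refine (lk_of haR hcR ?_).trans (lk_of hcR hbR ?_)
      · exact one_lt_gcd (fun h => h1 h) ((Nat.gcd_dvd_right _ _).trans hta)
          ((Nat.gcd_dvd_left _ _).trans hIc) ha0
      · exact one_lt_gcd (fun h => h2 h) ((Nat.gcd_dvd_left _ _).trans hIc)
          ((Nat.gcd_dvd_right _ _).trans hJb) (charDegree_pos φ.2)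
    · obtain ⟨φ, hφ, -⟩ := exists_irr_over' (tw lam θ₀)
      obtain ⟨hIc, hdc⟩ := deg_data hφ
      rw [deg_tw, hd0] at hdc
      set c := charDegree (φ : G → ℂ)
      have hc0 : 0 < c := charDegree_pos φ.2
      have hsub : ∀ g ∈ inertia N (tw lam θ₀ : N → ℂ), g ∈ inertia N (θ₀ : N → ℂ) ∧ g ∈ St N lam :=
        fun g hg => (inert_le hr hn (hd0 ▸ hrd) hθ₀n hlamr hg).imp id (mem_St N).2
      have hJc : (St N lam).index ∣ c := (Subgroup.index_dvd_of_le fun g hg => (hsub g hg).2).trans hIc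
      have hI0c : (inertia N (θ₀ : N → ℂ)).index ∣ c :=
        (Subgroup.index_dvd_of_le fun g hg => (hsub g hg).1).trans hIc
      have hcR : c ∈ relCharDegrees N := mem_rel hφ fun ht => by
        have hd1 : d = 1 := by
          rw [← hd0, ← deg_tw lam θ₀, show (tw lam θ₀ : N → ℂ) = fun _ => 1 from funext ht,
            charDegree_one]
        have h7 : dt (tw lam θ₀) = 1 := dt_of_deg_one (funext fun x => by rw [ht x]; simp [lf])
        rw [dt_tw, hd0, hd1, pone] at h7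
        refine hlam1 (eq_one_of_coprime_pow (hr.coprime_iff_not_dvd.2 hn)
          (hWexp lam hlam) (MonoidHom.ext fun x => ?_))
        have h8 := DFunLike.congr_fun h7 x
        have h9 : dt θ₀ x ^ n = 1 := by rw [← MonoidHom.pow_apply, hθ₀n]; rfl
        simp only [MonoidHom.mul_apply, MonoidHom.one_apply] at h8 ⊢
        rw [MonoidHom.pow_apply]
        have := congrArg (· ^ n) h8
        simpa [mul_pow, h9] using this
      have hac : 1 < Nat.gcd a c := by
        by_cases hd1 : d = 1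
        · by_cases hIt : inertia N (θ₀ : N → ℂ) = ⊤
          · obtain ⟨q, M, k', hq, hqa, hrM, hi, ho, hn0⟩ := hβprime hd1 hIt fun h => hcase ⟨hd1, hIt, h⟩
            refine one_lt_gcd hq.ne_one hqa (hlin hφ q M k' hq ?_ hi ho hn0) ha0
            rw [dt_tw, hd0, hd1, pone, hmulM _ _ hrM]
          · exact one_lt_gcd (index_ne_one hIt) hI0a hI0c ha0
        · exact one_lt_gcd hd1 hda hdc ha0
      exact (lk_of haR hcR hac).trans (lk_of hcR hbR (one_lt_gcd (index_ne_one hJ) hJc hJb hc0))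
where
  exists_irr_over' (θ : IrrCharacter N) : ∃ φ : IrrCharacter G,
      classInner (fun n : N => (φ : G → ℂ) n) (θ : N → ℂ) ≠ 0 ∧ True := by
    obtain ⟨φ, hφ⟩ := exists_irr_over N θ.2
    exact ⟨φ, hφ, trivial⟩

end Cfsg.Agent.Lib.Char.RelGraph
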