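import Cfsg.Agent.Lib.Char.RelGraph.Link

/-!
# The common-divisor graph of relative degrees
-/

set_option autoImplicit false
set_option linter.unusedSectionVars false
set_option linter.style.haveILetI false

namespace Cfsg.Agent.Lib.Char.RelGraph

open Cfsg Cfsg.Agent.Lib Cfsg.Agent.Lib.Char
open Cfsg.Agent.Lib.Char.TwoDegPrime (lf lf_inj cj lf_cj cj_apply cj_prod cj_inv cj_mul cj_one St mem_St)

universe u

variable {G : Type u} [Group G] [Fintype G] {N : Subgroup G} [N.Normal]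

/-- A degree over a linear character in a minimal invariant subgroup of `r`-torsion. -/
def Base (N : Subgroup G) [N.Normal] [Fintype N] (r μ : ℕ) : Prop :=
  ∃ (lam : N →* ℂˣ) (φ : IrrCharacter G), lam ≠ 1 ∧ lam ^ r = 1 ∧
    classInner (fun n : N => (φ : G → ℂ) n) (lirr lam : N → ℂ) ≠ 0 ∧
    charDegree (φ : G → ℂ) = μ ∧
    ∀ a ∈ relCharDegrees N, ¬ r ∣ a → Lk N a μ

theorem exists_base [Fintype N] (hNG : N ≤ commutator G) {r : ℕ} (hr : r.Prime)
    (hd : r ∣ (commutator N).index) : ∃ μ, Base N r μ := by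
  classical
  haveI := finite_dual (N := N)
  haveI := Fintype.ofFinite (N →* ℂˣ)
  haveI := Fact.mk hr
  have hcard : Nat.card (N →* ℂˣ) = (commutator N).index := by
    rw [Nat.card_congr (linearEquiv N), card_linear]
  obtain ⟨x, hx⟩ := exists_prime_orderOf_dvd_card' (G := N →* ℂˣ) r (hcard ▸ hd)
  let V : Subgroup (N →* ℂˣ) :=
    { carrier := {z | z ^ r = 1}
      one_mem' := opow r
      mul_mem' := fun {a b} ha hb => MonoidHom.ext fun n => by
        have ha' : a n ^ r = 1 := by rw [← MonoidHom.pow_apply, show a ^ r = 1 from ha]; rfl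
        have hb' : b n ^ r = 1 := by rw [← MonoidHom.pow_apply, show b ^ r = 1 from hb]; rfl
        simp [MonoidHom.pow_apply, mul_pow, ha', hb']
      inv_mem' := fun {a} ha => MonoidHom.ext fun n => by
        have ha' : a n ^ r = 1 := by rw [← MonoidHom.pow_apply, show a ^ r = 1 from ha]; rfl
        simp [MonoidHom.pow_apply, ha'] }
  set 𝒮 : Finset (Subgroup (N →* ℂˣ)) := Finset.univ.filter fun S =>
    S ≤ V ∧ (∀ g : G, ∀ z ∈ S, cj N g z ∈ S) ∧ S ≠ ⊥
  obtain ⟨W, hW, hmin⟩ := 𝒮.exists_minimal ⟨V, Finset.mem_filter.2 ⟨Finset.mem_univ _, le_rfl,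
    fun g z hz => show cj N g z ^ r = 1 by
      rw [← cj_pow, show z ^ r = 1 from hz]; exact MonoidHom.ext fun _ => rfl,
    fun hb => by
      have hxV : x ∈ V := show x ^ r = 1 from pow_of_dvd (dvd_of_eq hx)
      rw [hb, Subgroup.mem_bot] at hxV
      exact hr.ne_one (hx.symm.trans (orderOf_eq_one_iff.2 hxV))⟩⟩
  obtain ⟨hWV, hWinv, hWne⟩ := (Finset.mem_filter.1 hW).2
  obtain ⟨⟨lam, hlam⟩, hlam1⟩ := Subgroup.ne_bot_iff_exists_ne_one.1 hWne
  have hlam1' : lam ≠ 1 := fun h => hlam1 (Subtype.ext h)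
  obtain ⟨φ, hφ⟩ := exists_irr_over N (lirr lam).2
  refine ⟨_, lam, φ, hlam1', hWV hlam, hφ, rfl, fun a ha hra =>
    link hNG hr W hWinv (fun z hz => hWV hz) (fun S hS hSinv hSne => ?_) hlam hlam1' hφ ha hra⟩
  exact le_antisymm hS (hmin (Finset.mem_filter.2 ⟨Finset.mem_univ _, hS.trans hWV, hSinv, hSne⟩) hS)

theorem Base.mem [Fintype N] {r μ : ℕ} (h : Base N r μ) : μ ∈ relCharDegrees N := by
  obtain ⟨lam, φ, h1, -, hov, hdeg, -⟩ := h
  exact hdeg ▸ mem_rel hov fun ht => h1 (MonoidHom.ext fun n => Units.ext (ht n))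

/-- Two base degrees are linked. -/
theorem base_link [Fintype N] (hNG : N ≤ commutator G) {r s μ ν : ℕ} (hr : r.Prime) (hs : s.Prime)
    (hrs : r ≠ s) (h : Base N r μ) (h' : Base N s ν) : Lk N μ ν := by
  classical
  have hμR := h.mem
  have hνR := h'.mem
  obtain ⟨l, φ, hl1, hlr, hov, hμ, -⟩ := h
  obtain ⟨l', φ', hl1', hls, hov', hν, -⟩ := h'
  obtain ⟨e, f, hes, hfr⟩ : ∃ e f : ℕ, (e ≡ 1 [MOD r] ∧ e ≡ 0 [MOD s]) ∧
      (f ≡ 0 [MOD r] ∧ f ≡ 1 [MOD s]) := by
    obtain ⟨e, he⟩ := Nat.chineseRemainder ((Nat.coprime_primes hr hs).2 hrs) 1 0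
    obtain ⟨f, hf⟩ := Nat.chineseRemainder ((Nat.coprime_primes hr hs).2 hrs) 0 1
    exact ⟨e, f, he, hf⟩
  have hpt : ∀ (y : N →* ℂˣ) (m i j : ℕ), y ^ m = 1 → i ≡ j [MOD m] → y ^ i = y ^ j :=
    fun y m i j hy hij => pow_congr' (hij.of_dvd (ord_dvd hy))
  have hx1 : (l * l') ^ e = l := by
    refine MonoidHom.ext fun n => ?_
    have e1 := DFunLike.congr_fun ((hpt l r e 1 hlr hes.1).trans (pone l)) n
    have e2 := DFunLike.congr_fun (hpt l' s e 0 hls hes.2) n
    simp only [MonoidHom.pow_apply, pow_zero] at e1 e2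
    simp [MonoidHom.pow_apply, mul_pow, e1, e2]
  have hx2 : (l * l') ^ f = l' := by
    refine MonoidHom.ext fun n => ?_
    have e1 := DFunLike.congr_fun (hpt l r f 0 hlr hfr.1) n
    have e2 := DFunLike.congr_fun ((hpt l' s f 1 hls hfr.2).trans (pone l')) n
    simp only [MonoidHom.pow_apply, pow_zero] at e1 e2
    simp [MonoidHom.pow_apply, mul_pow, e1, e2]
  obtain ⟨χ, hχ⟩ := exists_irr_over N (lirr (l * l')).2
  set c := charDegree (χ : G → ℂ)
  have hcR : c ∈ relCharDegrees N := mem_rel hχ fun ht => hl1 (by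
    have h2 : l * l' = 1 := MonoidHom.ext fun n => Units.ext (ht n)
    rw [← hx1, h2, opow])
  have hc0 : 0 < c := charDegree_pos χ.2
  have key : ∀ (p i : ℕ) (y : N →* ℂˣ), p.Prime → y ≠ 1 → y ^ p = 1 → (l * l') ^ i = y →
      ∀ ψ : IrrCharacter G, classInner (fun n : N => (ψ : G → ℂ) n) (lirr y : N → ℂ) ≠ 0 →
        1 < Nat.gcd (charDegree (ψ : G → ℂ)) c := by
    intro p i y hp hy1 hyp hi ψ hψ
    by_cases hJ : St N y = ⊤
    · have hinv : ∀ g : G, cj N g y = y := fun g => (mem_St N).1 (hJ ▸ Subgroup.mem_top g)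
      refine one_lt_gcd hp.ne_one ?_ ?_ (charDegree_pos ψ.2)
      · exact dvd_of_over_linear hNG (m := 1) (k := 1) (dt_lirr y) hψ hp
          (fun g => by rw [pone]; exact hinv g) (by rw [pone, pow_one]; exact hyp)
          (by rw [pone]; exact hy1)
      · exact dvd_of_over_linear hNG (m := i) (k := 1) (dt_lirr (l * l')) hχ hp
          (fun g => by rw [hi]; exact hinv g) (by rw [hi, pow_one]; exact hyp) (by rw [hi]; exact hy1)
    · refine one_lt_gcd (index_ne_one hJ) (deg_data hψ).1 ?_ (charDegree_pos ψ.2)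
      refine (Subgroup.index_dvd_of_le fun g hg => ?_).trans (deg_data hχ).1
      have h3 : cj N g (l * l') = l * l' := lf_inj (by rw [lf_cj]; exact hg)
      rw [mem_St, ← hi, cj_pow, h3]
  refine (lk_of hμR hcR ?_).trans (lk_of hcR hνR ?_)
  · exact hμ ▸ key r e l hr hl1 hlr hx1 φ hov
  · rw [Nat.gcd_comm]; exact hν ▸ key s f l' hs hl1' hls hx2 φ' hov'

/-- The dichotomy for two unlinked degrees. -/
theorem dichotomy [Fintype N] (hNG : N ≤ commutator G) {a b : ℕ} (ha : a ∈ relCharDegrees N)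
    (hb : b ∈ relCharDegrees N) (hab : ¬ Lk N a b) :
    (a.Coprime (commutator N).index ∧ ∀ r : ℕ, r.Prime → r ∣ (commutator N).index → r ∣ b) ∨
      (b.Coprime (commutator N).index ∧ ∀ r : ℕ, r.Prime → r ∣ (commutator N).index → r ∣ a) := by
  have hone : ∀ r : ℕ, r.Prime → r ∣ (commutator N).index → (r ∣ a ∨ r ∣ b) ∧ ¬ (r ∣ a ∧ r ∣ b) := by
    intro r hr hrm
    refine ⟨?_, fun ⟨h1, h2⟩ => hab (lk_of ha hb
      (one_lt_gcd hr.ne_one h1 h2 (Nat.zero_lt_of_lt (rel_gt_one hNG ha))))⟩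
    by_contra h
    push Not at h
    obtain ⟨μ, l, φ, -, -, -, -, hl⟩ := exists_base hNG hr hrm
    exact hab ((hl a ha h.1).trans (hl b hb h.2).symm)
  by_cases h : ∀ r : ℕ, r.Prime → r ∣ (commutator N).index → r ∣ b
  · refine Or.inl ⟨Nat.coprime_of_dvd fun r hr hra hrm => ?_, h⟩
    exact (hone r hr hrm).2 ⟨hra, h r hr hrm⟩
  · push Not at h
    obtain ⟨s, hs, hsm, hsb⟩ := h
    have hall : ∀ r : ℕ, r.Prime → r ∣ (commutator N).index → r ∣ a := by
      intro r hr hrm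
      by_contra hra
      have hrb := (hone r hr hrm).1.resolve_left hra
      have hsa := (hone s hs hsm).1.resolve_right hsb
      obtain ⟨μ, hμ⟩ := exists_base hNG hr hrm
      obtain ⟨ν, hν⟩ := exists_base hNG hs hsm
      have hlink := base_link hNG hr hs (fun e => hra (e ▸ hsa)) hμ hν
      obtain ⟨l, φ, -, -, -, -, hlμ⟩ := hμ
      obtain ⟨l', φ', -, -, -, -, hlν⟩ := hν
      exact hab (((hlμ a ha hra).trans hlink).trans (hlν b hb hsb).symm)
    exact Or.inr ⟨Nat.coprime_of_dvd fun r hr hrb hrm => (hone r hr hrm).2 ⟨hall r hr hrm, hrb⟩, hall⟩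

theorem lk_reachable {a b : ℕ} (ha : a ∈ relCharDegrees N) (hb : b ∈ relCharDegrees N)
    (h : Lk N a b) : (Cfsg.commonDivisorGraph.induce (relCharDegrees N)).Reachable ⟨a, ha⟩ ⟨b, hb⟩ := by
  induction h with
  | refl => exact SimpleGraph.Reachable.refl _
  | @tail x y h1 h2 ih =>
    have hr := ih h2.1
    by_cases e : x = y
    · subst e; exact hr
    · exact hr.trans (SimpleGraph.Adj.reachable (G := Cfsg.commonDivisorGraph.induce (relCharDegrees N))
        (show Cfsg.commonDivisorGraph.Adj x y from ⟨e, h2.2.2⟩))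

/-- At most two components, and the dichotomy. -/
theorem components [Finite N] (hN : ⁅N, N⁆ < N) (hNG : N ≤ commutator G) :
    Nat.card (Cfsg.commonDivisorGraph.induce (relCharDegrees N)).ConnectedComponent ≤ 2 ∧
      ∀ (a b : ℕ) (ha : a ∈ relCharDegrees N) (hb : b ∈ relCharDegrees N),
        ¬ (Cfsg.commonDivisorGraph.induce (relCharDegrees N)).Reachable ⟨a, ha⟩ ⟨b, hb⟩ →
        (Nat.Coprime a (⁅N, N⁆.relIndex N) ∧ ∀ r : ℕ, r.Prime → r ∣ ⁅N, N⁆.relIndex N → r ∣ b) ∨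
          (Nat.Coprime b (⁅N, N⁆.relIndex N) ∧ ∀ r : ℕ, r.Prime → r ∣ ⁅N, N⁆.relIndex N → r ∣ a) := by
  classical
  haveI := Fintype.ofFinite N
  have hidx : ⁅N, N⁆.relIndex N = (commutator N).index := by
    rw [← Subgroup.map_subtype_commutator N]
    exact congrArg Subgroup.index (Subgroup.comap_map_eq_self_of_injective N.subtype_injective _)
  have hm1 : ⁅N, N⁆.relIndex N ≠ 1 := fun h => hN.not_ge (Subgroup.relIndex_eq_one.1 h)
  have hdich : ∀ (a b : ℕ) (ha : a ∈ relCharDegrees N) (hb : b ∈ relCharDegrees N),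
      ¬ (Cfsg.commonDivisorGraph.induce (relCharDegrees N)).Reachable ⟨a, ha⟩ ⟨b, hb⟩ →
        (Nat.Coprime a (⁅N, N⁆.relIndex N) ∧ ∀ r : ℕ, r.Prime → r ∣ ⁅N, N⁆.relIndex N → r ∣ b) ∨
          (Nat.Coprime b (⁅N, N⁆.relIndex N) ∧ ∀ r : ℕ, r.Prime → r ∣ ⁅N, N⁆.relIndex N → r ∣ a) := by
    intro a b ha hb h
    rw [hidx]
    exact dichotomy hNG ha hb fun hl => h (lk_reachable ha hb hl)
  refine ⟨?_, hdich⟩
  let F : (Cfsg.commonDivisorGraph.induce (relCharDegrees N)).ConnectedComponent → Bool :=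
    fun C => decide (Nat.Coprime C.out.1 (⁅N, N⁆.relIndex N))
  refine le_trans (Nat.card_le_card_of_injective F fun C D hCD => ?_) (by simp)
  rw [← C.out_eq, ← D.out_eq]
  refine SimpleGraph.ConnectedComponent.sound ?_
  by_contra h
  obtain ⟨q, hq, hqm⟩ := Nat.exists_prime_and_dvd hm1
  have hCD' : Nat.Coprime C.out.1 (⁅N, N⁆.relIndex N) ↔ Nat.Coprime D.out.1 (⁅N, N⁆.relIndex N) :=
    decide_eq_decide.1 hCD
  rcases hdich C.out.1 D.out.1 C.out.2 D.out.2 h with ⟨h1, h2⟩ | ⟨h1, h2⟩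
  · exact hq.ne_one (Nat.eq_one_of_dvd_coprimes (hCD'.1 h1) (h2 q hq hqm) hqm)
  · exact hq.ne_one (Nat.eq_one_of_dvd_coprimes (hCD'.2 h1) (h2 q hq hqm) hqm)

end Cfsg.Agent.Lib.Char.RelGraph
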