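import Cfsg.Agent.Lib.Char.RelGraph.Twist

/-!
# Orbits of linear characters with coprime lengths
-/

set_option autoImplicit false
set_option linter.unusedSectionVars false
set_option linter.style.haveILetI false

namespace Cfsg.Agent.Lib.Char.RelGraph

open Cfsg Cfsg.Agent.Lib Cfsg.Agent.Lib.Char
open Cfsg.Agent.Lib.Char.TwoDegPrime (lf lf_inj cj lf_cj cj_apply cj_prod cj_inv cj_mul cj_one St mem_St)

universe u

variable {G : Type u} [Group G] [Fintype G] {N : Subgroup G} [N.Normal]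

theorem finite_dual : Finite (N →* ℂˣ) := Finite.of_equiv _ (linearEquiv N).symm

open scoped Classical in
/-- The orbit of a linear character. -/
noncomputable def orb (y : N →* ℂˣ) : Finset (N →* ℂˣ) := Finset.univ.image fun g : G => cj N g y

theorem mem_orb {y z : N →* ℂˣ} : z ∈ orb y ↔ ∃ g : G, cj N g y = z := by
  classical simp [orb]

theorem card_orb (y : N →* ℂˣ) : (orb y).card = (St N y).index := by
  classical
  have h : orbit N (lf y) = (orb y).image lf := by
    ext z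
    simp only [mem_orbit, Finset.mem_image, mem_orb]
    exact ⟨fun ⟨g, hg⟩ => ⟨_, ⟨g, rfl⟩, by rw [lf_cj, hg]⟩,
      fun ⟨_, ⟨g, hg⟩, hw⟩ => ⟨g, by rw [← lf_cj, hg, hw]⟩⟩
  rw [St, ← card_orbit N (lf y) (by simp [lf]), h,
    Finset.card_image_of_injective _ fun _ _ e => lf_inj e]

theorem mul_inv_left (a b : N →* ℂˣ) : a * (a⁻¹ * b) = b := MonoidHom.ext fun n => by simp

theorem inv_mul_self' (a : N →* ℂˣ) : a⁻¹ * a = 1 := MonoidHom.ext fun n => by simp

theorem mul_inv_right' (a b : N →* ℂˣ) : a * b * b⁻¹ = a := MonoidHom.ext fun n => by simp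

theorem mul_inv_mid (a b c : N →* ℂˣ) : a * b⁻¹ * c = a * c * b⁻¹ := MonoidHom.ext fun n => by
  simp [mul_right_comm]

theorem eq_of_mul_inv' {a b : N →* ℂˣ} (h : a * b⁻¹ = 1) : a = b := MonoidHom.ext fun n =>
  mul_inv_eq_one.1 (by simpa using DFunLike.congr_fun h n)

theorem pow_red {z : N →* ℂˣ} {r i : ℕ} (hz : z ^ r = 1) (hi : i % r = 1) : z ^ i = z :=
  MonoidHom.ext fun n => by
    have h : z n ^ r = 1 := by rw [← MonoidHom.pow_apply, hz]; rfl
    rw [MonoidHom.pow_apply, pow_eq_pow_mod i h, hi, pow_one]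

theorem pow_pow' (z : N →* ℂˣ) (a b : ℕ) : (z ^ a) ^ b = z ^ (a * b) :=
  MonoidHom.ext fun n => by simp [MonoidHom.pow_apply, pow_mul]

theorem cj_inv_cj (g : G) (y : N →* ℂˣ) : cj N g (cj N g⁻¹ y) = y := by
  rw [← cj_mul, inv_mul_cancel, cj_one]

theorem prod_orb_fixed (y : N →* ℂˣ) (g : G) : cj N g (∏ z ∈ orb y, z) = ∏ z ∈ orb y, z := by
  classical
  let f : (N →* ℂˣ) →* (N →* ℂˣ) :=
    { toFun := cj N g, map_one' := MonoidHom.ext fun _ => rfl, map_mul' := cj_prod N g }
  show f _ = _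
  rw [map_prod]
  refine Finset.prod_bij' (fun z _ => cj N g z) (fun z _ => cj N g⁻¹ z) ?_ ?_ ?_ ?_ (fun _ _ => rfl)
  · intro z hz; obtain ⟨h, rfl⟩ := mem_orb.1 hz; exact mem_orb.2 ⟨h * g, cj_mul N h g y⟩
  · intro z hz; obtain ⟨h, rfl⟩ := mem_orb.1 hz; exact mem_orb.2 ⟨h * g⁻¹, cj_mul N h g⁻¹ y⟩
  · intro z _; rw [← cj_mul, mul_inv_cancel, cj_one]
  · intro z _; exact cj_inv_cj g z

/-- Coprime indices give a factorisation. -/
theorem exists_factor {H J : Subgroup G} (h : (H.index).Coprime J.index) (g : G) :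
    ∃ a ∈ H, ∃ b ∈ J, g = a * b := by
  classical
  have h1 : H.relIndex J = H.index := by
    have h2 : (H ⊓ J).index = H.relIndex J * J.index := by
      rw [← Subgroup.inf_relIndex_right H J, Subgroup.relIndex_mul_index inf_le_right]
    have h3 : H.index * J.index ∣ (H ⊓ J).index :=
      h.mul_dvd_of_dvd_of_dvd (Subgroup.index_dvd_of_le inf_le_left) (Subgroup.index_dvd_of_le inf_le_right)
    have h4 : (H ⊓ J).index ≤ H.index * J.index := Subgroup.index_inf_le
    have h5 : H.index * J.index = (H ⊓ J).index :=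
      le_antisymm (Nat.le_of_dvd (Nat.pos_of_ne_zero Subgroup.index_ne_zero_of_finite) h3) h4
    rw [h2] at h5
    exact (Nat.eq_of_mul_eq_mul_right (Nat.pos_of_ne_zero Subgroup.index_ne_zero_of_finite) h5).symm
  let f : J ⧸ H.subgroupOf J → G ⧸ H := Quotient.lift (fun j : J => ((j : G) : G ⧸ H)) fun x y hxy => by
    refine QuotientGroup.eq.2 ?_
    have h : (QuotientGroup.leftRel (H.subgroupOf J)) x y := hxy
    have h' : x⁻¹ * y ∈ H.subgroupOf J := QuotientGroup.leftRel_apply.1 h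
    exact h'
  have hinj : Function.Injective f := by
    intro x y hxy
    induction x using QuotientGroup.induction_on with
    | _ x =>
      induction y using QuotientGroup.induction_on with
      | _ y =>
        have h : ((x : G) : G ⧸ H) = ((y : G) : G ⧸ H) := hxy
        have h' := QuotientGroup.eq.1 h
        exact QuotientGroup.eq.2 h'
  haveI := Fintype.ofFinite (G ⧸ H)
  haveI := Fintype.ofFinite (J ⧸ H.subgroupOf J)
  have hbij := (Fintype.bijective_iff_injective_and_card f).2 ⟨hinj, by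
    rw [← Nat.card_eq_fintype_card, ← Nat.card_eq_fintype_card, ← Subgroup.index_eq_card,
      ← Subgroup.index_eq_card]
    exact h1⟩
  obtain ⟨q, hq⟩ := hbij.2 (g⁻¹ : G)
  induction q using QuotientGroup.induction_on with
  | _ j =>
    have hm : (j : G)⁻¹ * g⁻¹ ∈ H := QuotientGroup.eq.1 hq
    exact ⟨((j : G)⁻¹ * g⁻¹)⁻¹, inv_mem hm, (j : G)⁻¹, inv_mem j.2, by group⟩

/-- Orbit products for a product with coprime orbit lengths. -/
theorem image_orb_eq {x y : N →* ℂˣ} (hc : ((St N x).index).Coprime (St N y).index)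
    (hk : (St N (x * y)).index ∣ (St N x).index) :
    (∀ z ∈ orb x, z * y ∈ orb (x * y)) ∧ ∀ w ∈ orb (x * y), ∃ z ∈ orb x, w = z * y := by
  classical
  have h1 : ∀ z ∈ orb x, z * y ∈ orb (x * y) := by
    intro z hz
    obtain ⟨g, rfl⟩ := mem_orb.1 hz
    obtain ⟨a, ha, b, hb, rfl⟩ := exists_factor hc g
    refine mem_orb.2 ⟨b, ?_⟩
    rw [cj_prod, cj_mul, (mem_St N).1 ha, (mem_St N).1 hb]
  refine ⟨h1, fun w hw => ?_⟩
  have hsub : (orb x).image (· * y) ⊆ orb (x * y) := fun w hw => by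
    obtain ⟨z, hz, rfl⟩ := Finset.mem_image.1 hw; exact h1 z hz
  have hle : (orb (x * y)).card ≤ ((orb x).image (· * y)).card := by
    rw [Finset.card_image_of_injective _ (mul_left_injective y), card_orb, card_orb]
    exact Nat.le_of_dvd (Nat.pos_of_ne_zero Subgroup.index_ne_zero_of_finite) hk
  rw [← Finset.eq_of_subset_of_card_le hsub hle] at hw
  obtain ⟨z, hz, e⟩ := Finset.mem_image.1 hw
  exact ⟨z, hz, e.symm⟩

/-- Transfer of an extension: the product of conjugates over the cosets is trivial. -/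
theorem exists_product_trivial (hNG : N ≤ commutator G) {ρ : N →* ℂˣ} {H : Subgroup G}
    {hNH : N ≤ H} (h : Ext H hNH ρ) :
    ∃ f : G ⧸ H → G, (letI := H.fintypeQuotientOfFiniteIndex; (∏ q : G ⧸ H, cj N (f q) ρ) = 1) := by
  classical
  obtain ⟨ν, hν⟩ := h
  let T : H.LeftTransversal := default
  refine ⟨fun q => ((T.2.leftQuotientEquiv q : T.1) : G)⁻¹, ?_⟩
  letI := H.fintypeQuotientOfFiniteIndex
  refine MonoidHom.ext fun n => ?_
  rw [MonoidHom.finsetProd_apply, MonoidHom.one_apply]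
  have h1 : MonoidHom.transfer ν (n : G) = 1 := Abelianization.commutator_subset_ker _ (hNG n.2)
  rw [MonoidHom.transfer_def ν T, Subgroup.leftTransversals.diff] at h1
  refine Eq.trans (Finset.prod_congr (by ext; simp) fun q _ => ?_) h1
  rw [cj_apply, ← hν]
  refine congrArg ν (Subtype.ext ?_)
  have hfix : ((n : G))⁻¹ • q = q := by
    induction q using QuotientGroup.induction_on with
    | _ x =>
      refine QuotientGroup.eq.2 (hNH ?_)
      have := (inferInstance : N.Normal).conj_mem (n : G) n.2 x⁻¹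
      simpa [mul_assoc] using this
  simp only [Subgroup.smul_apply_eq_smul_apply_inv_smul, hfix, smul_eq_mul, inv_inv, mul_assoc]

/-- The main orbit lemma. -/
theorem not_coprime_product (hNG : N ≤ commutator G) {r : ℕ} (hr : r.Prime)
    (W : Subgroup (N →* ℂˣ)) (hWinv : ∀ g : G, ∀ z ∈ W, cj N g z ∈ W) (hWexp : ∀ z ∈ W, z ^ r = 1)
    (hWmin : ∀ S : Subgroup (N →* ℂˣ), S ≤ W → (∀ g : G, ∀ z ∈ S, cj N g z ∈ S) → S ≠ ⊥ → S = W)
    {lam ρ : N →* ℂˣ} (hlam : lam ∈ W) (hlam1 : lam ≠ 1) {k : ℕ} (hρ : ρ ^ r ^ k = 1)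
    (hc : ((St N ρ).index).Coprime (St N lam).index) (ht : ¬ r ∣ (St N ρ).index)
    (hρne : St N ρ ≠ ⊤) (hu : St N lam ≠ ⊤)
    {H : Subgroup G} {hNH : N ≤ H} (hH : ¬ r ∣ H.index) (hext : Ext H hNH ρ) :
    ¬ ((St N (ρ * lam)).index).Coprime (St N ρ).index ∧
      ¬ ((St N (ρ * lam)).index).Coprime (St N lam).index := by
  classical
  have hdvd : (St N (ρ * lam)).index ∣ (St N ρ).index * (St N lam).index := by
    refine (Subgroup.index_dvd_of_le (H := St N ρ ⊓ St N lam) fun g hg => ?_).trans (dvd_of_eq ?_)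
    · rw [mem_St, cj_prod, (mem_St N).1 hg.1, (mem_St N).1 hg.2]
    · refine le_antisymm Subgroup.index_inf_le
        (Nat.le_of_dvd (Nat.pos_of_ne_zero Subgroup.index_ne_zero_of_finite) ?_)
      exact hc.mul_dvd_of_dvd_of_dvd (Subgroup.index_dvd_of_le inf_le_left)
        (Subgroup.index_dvd_of_le inf_le_right)
  refine ⟨fun hcop => ?_, fun hcop => ?_⟩
  · -- the orbit of the product is the translate of the orbit of `lam`
    have hk : (St N (lam * ρ)).index ∣ (St N lam).index := by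
      rw [mul_comm lam ρ]; exact hcop.dvd_of_dvd_mul_left hdvd
    obtain ⟨h1, h2⟩ := image_orb_eq hc.symm hk
    haveI := finite_dual (N := N)
    let O := orb lam
    let S : Subgroup (N →* ℂˣ) :=
      { carrier := {σ | ∀ y, σ * y ∈ O ↔ y ∈ O}
        one_mem' := fun y => by rw [one_mul]
        mul_mem' := fun {a b} ha hb y => by rw [mul_assoc]; exact (ha _).trans (hb y)
        inv_mem' := fun {a} ha y => by
          have := ha (a⁻¹ * y)
          rw [mul_inv_left] at this
          exact this.symm }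
    have hmemS : ∀ σ : N →* ℂˣ, (∀ y ∈ O, σ * y ∈ O) → σ ∈ S := by
      intro σ hσ y
      refine ⟨fun hy => ?_, hσ y⟩
      have himg : O.image (σ * ·) = O := Finset.eq_of_subset_of_card_le (fun z hz => by
          obtain ⟨y, hy, rfl⟩ := Finset.mem_image.1 hz; exact hσ y hy)
        (le_of_eq (Finset.card_image_of_injective _ (mul_right_injective σ)).symm)
      rw [← himg] at hy
      obtain ⟨z, hz, e⟩ := Finset.mem_image.1 hy
      exact (mul_left_cancel e) ▸ hz
    have hOinv : ∀ g : G, ∀ y ∈ O, cj N g y ∈ O := fun g y hy => by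
      obtain ⟨h, rfl⟩ := mem_orb.1 hy; exact mem_orb.2 ⟨h * g, cj_mul N h g lam⟩
    have hSinv : ∀ g : G, ∀ σ ∈ S, cj N g σ ∈ S := fun g σ hσ => hmemS _ fun y hy => by
      have h := hOinv g _ ((hσ _).2 (hOinv g⁻¹ y hy))
      rwa [cj_prod, cj_inv_cj] at h
    have hdiff : ∀ g : G, cj N g ρ * ρ⁻¹ ∈ S := fun g => hmemS _ fun y hy => by
      have hy' : cj N g⁻¹ y ∈ O := hOinv g⁻¹ y hy
      obtain ⟨g', hg'⟩ := mem_orb.1 (h1 _ hy')
      have h3 : cj N g (cj N g' (lam * ρ)) = y * cj N g ρ := by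
        rw [hg', cj_prod, cj_inv_cj]
      obtain ⟨z, hz, e⟩ := h2 _ (mem_orb.2 ⟨g' * g, by rw [cj_mul, h3]⟩)
      have : cj N g ρ * ρ⁻¹ * y = z := by
        rw [mul_comm y] at e
        rw [mul_inv_mid, e, mul_inv_right']
      rw [this]; exact hz
    have hSW : S ≤ W := fun σ hσ => by
      have h := (hσ lam).2 (mem_orb.2 ⟨1, cj_one N lam⟩)
      obtain ⟨g, hg⟩ := mem_orb.1 h
      have h' : σ = cj N g lam * lam⁻¹ := by rw [hg, mul_inv_right']
      rw [h']; exact mul_mem (hWinv g lam hlam) (inv_mem hlam)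
    have hSne : S ≠ ⊥ := fun hb => hρne (eq_top_iff.2 fun g _ => by
      have h := hdiff g
      rw [hb, Subgroup.mem_bot] at h
      exact (mem_St N).2 (eq_of_mul_inv' h))
    have hSeq := hWmin S hSW hSinv hSne
    have hl : lam⁻¹ ∈ S := hSeq ▸ inv_mem hlam
    have h := (hl lam).2 (mem_orb.2 ⟨1, cj_one N lam⟩)
    rw [inv_mul_self'] at h
    obtain ⟨g, hg⟩ := mem_orb.1 h
    refine hlam1 ?_
    have h5 := congrArg (cj N g⁻¹) hg
    rw [← cj_mul, mul_inv_cancel, cj_one] at h5
    rw [h5]; exact MonoidHom.ext fun _ => rfl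
  · -- the orbit product
    have hk : (St N (ρ * lam)).index ∣ (St N ρ).index := hcop.dvd_of_dvd_mul_right hdvd
    obtain ⟨h1, h2⟩ := image_orb_eq hc hk
    have himg : orb (ρ * lam) = (orb ρ).image (· * lam) := by
      ext w
      exact ⟨fun hw => by obtain ⟨z, hz, rfl⟩ := h2 w hw; exact Finset.mem_image_of_mem _ hz,
        fun hw => by obtain ⟨z, hz, rfl⟩ := Finset.mem_image.1 hw; exact h1 z hz⟩
    refine hu (eq_top_iff.2 fun g _ => (mem_St N).2 ?_)
    have hp := prod_orb_fixed (ρ * lam) g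
    rw [himg, Finset.prod_image (fun a _ b _ e => mul_right_cancel e), Finset.prod_mul_distrib,
      Finset.prod_const, cj_prod, prod_orb_fixed, mul_right_inj, card_orb] at hp
    have hpow : cj N g (lam ^ (St N ρ).index) = (cj N g lam) ^ (St N ρ).index :=
      MonoidHom.ext fun n => by rw [cj_apply, MonoidHom.pow_apply, MonoidHom.pow_apply, cj_apply]
    rw [hpow] at hp
    have hco : ((St N ρ).index).Coprime r := (hr.coprime_iff_not_dvd.2 ht).symm
    obtain ⟨j, -, hj⟩ := Nat.exists_mul_mod_eq_one_of_coprime hco hr.one_lt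
    have hred : ∀ z ∈ W, (z ^ (St N ρ).index) ^ j = z := fun z hz => by
      rw [pow_pow', pow_red (hWexp z hz) hj]
    rw [← hred _ (hWinv g lam hlam), hp, hred lam hlam]

end Cfsg.Agent.Lib.Char.RelGraph
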