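import Cfsg.Agent.Lib.Char.RelGraph.Main

/-!
# The shape of a disconnected common-divisor graph of relative degrees
-/

set_option autoImplicit false
set_option linter.unusedSectionVars false
set_option linter.style.haveILetI false

namespace Cfsg.Agent.Lib.Char.RelGraph

open Cfsg Cfsg.Agent.Lib Cfsg.Agent.Lib.Char
open Cfsg.Agent.Lib.Char.TwoDegPrime (lf lf_inj cj lf_cj cj_apply cj_prod cj_inv cj_mul cj_one St mem_St)

universe u

variable {G : Type u} [Group G] [Fintype G] {N : Subgroup G} [N.Normal]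

theorem st_index_one {y : N →* ℂˣ} (h : (St N y).index = 1) (g : G) : cj N g y = y :=
  (mem_St N).1 ((Subgroup.index_eq_one.1 h) ▸ Subgroup.mem_top g)

theorem st_le_pow (y : N →* ℂˣ) (e : ℕ) : St N y ≤ St N (y ^ e) := fun g hg => by
  rw [mem_St, cj_pow, (mem_St N).1 hg]

theorem prime_dvd_index [Fintype N] {y : N →* ℂˣ} {q : ℕ} (hq : q ∣ orderOf y) :
    q ∣ (commutator N).index := by
  haveI := finite_dual (N := N)
  refine hq.trans ?_
  rw [show (commutator N).index = Nat.card (N →* ℂˣ) by rw [Nat.card_congr (linearEquiv N), card_linear]]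
  exact orderOf_dvd_natCard y

/-- The twist whose determinant has order prime to `r`. -/
theorem exists_canonical (θ : IrrCharacter N) {r : ℕ} (hr : r.Prime)
    (hd : ¬ r ∣ charDegree (θ : N → ℂ)) :
    ∃ (ρ : N →* ℂˣ) (n : ℕ), ¬ r ∣ n ∧ (dt (tw ρ θ)) ^ n = 1 := by
  obtain ⟨e, f, k, n, hn, hef, hxe, hxf⟩ := exists_parts (dt θ) hr
  set d := charDegree (θ : N → ℂ) with hd'
  obtain ⟨m, hm0, hm1⟩ := Nat.chineseRemainder
    ((hr.coprime_iff_not_dvd.2 hd).symm.pow_right k : d.Coprime (r ^ k)) 0 1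
  obtain ⟨j, rfl⟩ := Nat.modEq_zero_iff_dvd.1 hm0
  refine ⟨(((dt θ) ^ e) ^ j)⁻¹, n, hn, ?_⟩
  have hρd : (((dt θ) ^ e) ^ j) ^ d = (dt θ) ^ e := by
    rw [pow_pow', mul_comm]
    conv_rhs => rw [← pone ((dt θ) ^ e)]
    exact pow_congr' (hm1.of_dvd (ord_dvd hxe))
  have hβ : dt (tw (((dt θ) ^ e) ^ j)⁻¹ θ) = (dt θ) ^ f := by
    rw [dt_tw, ← hd']
    refine MonoidHom.ext fun x => ?_
    have h1 : ((dt θ x ^ e) ^ j) ^ d = dt θ x ^ e := by
      have := DFunLike.congr_fun hρd x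
      simpa only [MonoidHom.pow_apply] using this
    have h2 : dt θ x ^ e * dt θ x ^ f = dt θ x := by
      rw [← MonoidHom.pow_apply, ← MonoidHom.pow_apply, ← MonoidHom.mul_apply, hef]
    simp only [MonoidHom.mul_apply, MonoidHom.pow_apply, MonoidHom.inv_apply, inv_pow]
    rw [h1, inv_mul_eq_iff_eq_mul, h2]
  rw [hβ]; exact hxf

/-- No invariant linear character of prime order when some degree avoids that prime and is coprime to
every degree divisible by it. -/
theorem no_invariant [Fintype N] (hNG : N ≤ commutator G) {a : ℕ} (ha : a ∈ relCharDegrees N)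
    (hcop : a.Coprime (commutator N).index)
    (hsep : ∀ c ∈ relCharDegrees N, ¬ c.Coprime (commutator N).index → a.Coprime c)
    {y : N →* ℂˣ} (hy : ∀ g : G, cj N g y = y) : y = 1 := by
  classical
  haveI := finite_dual (N := N)
  by_contra hy1
  obtain ⟨q, hq, hqy⟩ := Nat.exists_prime_and_dvd (fun h => hy1 (eq_one_of_ord h))
  obtain ⟨w, hw⟩ := hqy
  set z := y ^ w with hzdef
  have hz : z ^ q ^ 1 = 1 := by
    rw [hzdef, pow_one, pow_pow', mul_comm, ← hw]; exact pow_of_dvd dvd_rfl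
  have hz1 : z ≠ 1 := fun h => by
    have h0 : 0 < orderOf y := orderOf_pos y
    have hw0 : 0 < w := Nat.pos_of_ne_zero fun e => by rw [e, mul_zero] at hw; omega
    have := Nat.le_of_dvd hw0 (ord_dvd h)
    have := hq.two_le
    nlinarith
  have hinvz : ∀ g, cj N g z = z := fun g => by rw [hzdef, cj_pow, hy]
  have hqm : q ∣ (commutator N).index := prime_dvd_index ⟨w, hw⟩
  have hqa : ¬ q ∣ a := fun h => hq.ne_one (Nat.eq_one_of_dvd_coprimes hcop h hqm)
  obtain ⟨χ, hχN, hχ⟩ := ha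
  obtain ⟨θ, hθ, hθt⟩ := exists_under hχN
  have ha0 : 0 < a := hχ ▸ charDegree_pos χ.2
  obtain ⟨hIa, hda⟩ := deg_data hθ
  rw [hχ] at hIa hda
  set d := charDegree (θ : N → ℂ) with hd
  have hqd : ¬ q ∣ d := fun h => hqa (h.trans hda)
  obtain ⟨φ, hφ⟩ := exists_irr_over N (tw z θ).2
  have hIeq : inertia N (tw z θ : N → ℂ) = inertia N (θ : N → ℂ) := by
    ext g
    constructor
    · intro hg
      have h3 : cθ g (tw z θ) = tw z θ := Subtype.ext hg
      rw [cθ_tw, hinvz] at h3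
      exact congrArg Subtype.val (tw_cancel h3)
    · intro hg
      have h4 : cθ g θ = θ := Subtype.ext hg
      show conjChar N g (tw z θ : N → ℂ) = _
      exact congrArg Subtype.val (show cθ g (tw z θ) = tw z θ by rw [cθ_tw, hinvz, h4])
  set c := charDegree (φ : G → ℂ) with hc
  have hqc : q ∣ c := by
    by_contra hnd
    haveI := Fact.mk hq
    obtain ⟨H, hNH, hHI, hk', hHq⟩ := exists_step (inertia N (θ : N → ℂ))
      (le_inertia N (isClassFunction_of_isIrr θ.2)) (q := q)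
    have hH := hHq fun h => hqa (h.trans hIa)
    have e1 := ext_dt hθ hq (hχ ▸ hqa) hNH hHI hk'
    have e2 := ext_dt hφ hq hnd hNH (hIeq ▸ hHI) hk'
    have e3 := e2.div e1
    have h5 : dt (tw z θ) / dt θ = z ^ d := MonoidHom.ext fun x => by simp [dt_tw, ← hd]
    rw [h5] at e3
    have h6 := trivial_of_ext hNG (fun g => by rw [cj_pow, hinvz]) hq (k := 1) (by
      rw [pow_pow', mul_comm, ← pow_pow', hz, opow]) hH e3
    exact hz1 (eq_one_of_coprime_pow (Nat.Coprime.symm (hq.coprime_iff_not_dvd.2 hqd)) h6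
      (by simpa only [pow_one] using hz))
  have hsmall : d = 1 ∧ inertia N (θ : N → ℂ) = ⊤ := by
    by_cases ht : IsTriv (tw z θ)
    · have hd1 : d = 1 := by
        rw [hd, ← deg_tw z θ, show (tw z θ : N → ℂ) = fun _ => 1 from funext ht, charDegree_one]
      refine ⟨hd1, top_le_iff.1 fun g _ => ?_⟩
      rw [← hIeq]
      show conjChar N g (tw z θ : N → ℂ) = _
      rw [show (tw z θ : N → ℂ) = fun _ => 1 from funext ht]
      rfl
    · have hcR : c ∈ relCharDegrees N := mem_rel hφ ht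
      have hac := hsep c hcR fun h => hq.ne_one (Nat.eq_one_of_dvd_coprimes h hqc hqm)
      obtain ⟨hIc, hdc⟩ := deg_data hφ
      rw [hIeq, ← hc] at hIc
      rw [deg_tw, ← hd, ← hc] at hdc
      exact ⟨Nat.eq_one_of_dvd_coprimes hac hda hdc,
        Subgroup.index_eq_one.1 (Nat.eq_one_of_dvd_coprimes hac hIa hIc)⟩
  -- `θ` is an invariant linear character
  obtain ⟨hd1, hIt⟩ := hsmall
  have hx1 : dt θ ≠ 1 := fun h => hθt fun n => by
    rw [eq_lirr hd1, h]; simp [lirr, lf]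
  obtain ⟨s, hs, hsx⟩ := Nat.exists_prime_and_dvd (fun h => hx1 (eq_one_of_ord h))
  obtain ⟨e, f, k, n, hn, hef, hxe, hxf⟩ := exists_parts (dt θ) hs
  have hne : (dt θ) ^ e ≠ 1 := fun h => hn (by
    have h4 : dt θ = (dt θ) ^ f := by
      conv_lhs => rw [← hef, h]
      exact MonoidHom.ext fun x => by simp
    exact hsx.trans (ord_dvd (by rw [h4]; exact hxf)))
  have hsa : s ∣ a := hχ ▸ dvd_of_over_linear hNG rfl hθ hs
    (fun g => by rw [cj_pow, dt_conj_eq (hIt ▸ Subgroup.mem_top g)]) hxe hne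
  exact hs.ne_one (Nat.eq_one_of_dvd_coprimes hcop hsa (prime_dvd_index hsx))

/-- Orbit lengths prime to the order: the product shares a factor with each. -/
theorem shared_factor [Fintype N] (hfix : ∀ y : N →* ℂˣ, (∀ g : G, cj N g y = y) → y = 1)
    {x y : N →* ℂˣ} (hc : ((St N x).index).Coprime (St N y).index)
    (hy : ((St N y).index).Coprime (commutator N).index) (hx1 : x ≠ 1) :
    ¬ ((St N (y * x)).index).Coprime (St N x).index := by
  classical
  intro hcop
  have hdvd : (St N (y * x)).index ∣ (St N x).index * (St N y).index := by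
    refine (Subgroup.index_dvd_of_le (H := St N x ⊓ St N y) fun g hg => ?_).trans (dvd_of_eq ?_)
    · rw [mem_St, cj_prod, (mem_St N).1 hg.1, (mem_St N).1 hg.2]
    · refine le_antisymm Subgroup.index_inf_le
        (Nat.le_of_dvd (Nat.pos_of_ne_zero Subgroup.index_ne_zero_of_finite) ?_)
      exact hc.mul_dvd_of_dvd_of_dvd (Subgroup.index_dvd_of_le inf_le_left)
        (Subgroup.index_dvd_of_le inf_le_right)
  have hk : (St N (y * x)).index ∣ (St N y).index := hcop.dvd_of_dvd_mul_left hdvd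
  obtain ⟨h1, h2⟩ := image_orb_eq hc.symm hk
  have himg : orb (y * x) = (orb y).image (· * x) := by
    ext w
    exact ⟨fun hw => by obtain ⟨z, hz, rfl⟩ := h2 w hw; exact Finset.mem_image_of_mem _ hz,
      fun hw => by obtain ⟨z, hz, rfl⟩ := Finset.mem_image.1 hw; exact h1 z hz⟩
  refine hx1 (eq_one_of_coprime_pow hy (hfix _ fun g => ?_) ?_)
  · have hp := prod_orb_fixed (y * x) g
    rw [himg, Finset.prod_image (fun a _ b _ e => mul_right_cancel e), Finset.prod_mul_distrib,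
      Finset.prod_const, cj_prod, prod_orb_fixed, mul_right_inj, card_orb] at hp
    exact hp
  · haveI := finite_dual (N := N)
    refine pow_of_dvd ?_
    rw [show (commutator N).index = Nat.card (N →* ℂˣ) by rw [Nat.card_congr (linearEquiv N), card_linear]]
    exact orderOf_dvd_natCard x

/-- Restriction to a smaller normal subgroup. -/
def res {M N : Subgroup G} (hMN : M ≤ N) (f : N → ℂ) : M → ℂ := fun x => f ⟨(x : G), hMN x.2⟩

/-- Constituents of a restriction, in two steps. -/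
theorem over_iff [Fintype N] {M : Subgroup G} [Fintype M] (hMN : M ≤ N) (χ : IrrCharacter G)
    (η : IrrCharacter M) :
    classInner (fun x : M => (χ : G → ℂ) x) (η : M → ℂ) ≠ 0 ↔
      ∃ θ : IrrCharacter N, classInner (fun x : N => (χ : G → ℂ) x) (θ : N → ℂ) ≠ 0 ∧
        classInner (res hMN (θ : N → ℂ)) (η : M → ℂ) ≠ 0 := by
  classical
  obtain ⟨m, hm⟩ := isCharacter_eq_sum (isCharacter_restrict (isCharacter_of_isIrr χ.2) N)
  have hc : ∀ θ : IrrCharacter N, IsCharacter M (res hMN (θ : N → ℂ)) := fun θ =>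
    isCharacter_comp (isCharacter_of_isIrr θ.2) (Subgroup.inclusion hMN)
  choose c hc' using fun θ => classInner_natCast (hc θ) (isCharacter_of_isIrr η.2)
  have hsum : (fun x : M => (χ : G → ℂ) x) = ∑ θ : IrrCharacter N, (m θ : ℂ) • res hMN (θ : N → ℂ) := by
    funext x
    have := congrFun hm ⟨(x : G), hMN x.2⟩
    simp only [Finset.sum_apply, Pi.smul_apply, smul_eq_mul] at this ⊢
    exact this
  have hA : classInner (fun x : M => (χ : G → ℂ) x) (η : M → ℂ) = ((∑ θ : IrrCharacter N, m θ * c θ : ℕ) : ℂ) := by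
    rw [hsum, classInner_sum_left]
    simp only [classInner_smul_left, hc']
    push_cast
    rfl
  have hB : ∀ θ : IrrCharacter N, classInner (fun x : N => (χ : G → ℂ) x) (θ : N → ℂ) = m θ := fun θ => by
    rw [hm, classInner_sum_left, Finset.sum_eq_single θ]
    · rw [classInner_smul_left, classInner_irr_self θ.2, mul_one]
    · intro γ _ hγ
      rw [classInner_smul_left, classInner_irr_ne γ.2 θ.2 (fun e => hγ (Subtype.ext e)), mul_zero]
    · exact fun h => absurd (Finset.mem_univ θ) h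
  rw [hA]
  constructor
  · intro h
    have h' : ∑ θ : IrrCharacter N, m θ * c θ ≠ 0 := fun e => h (by rw [e, Nat.cast_zero])
    obtain ⟨θ, -, hθ⟩ := Finset.exists_ne_zero_of_sum_ne_zero h'
    exact ⟨θ, by rw [hB]; exact_mod_cast (left_ne_zero_of_mul hθ),
      by rw [hc']; exact_mod_cast (right_ne_zero_of_mul hθ)⟩
  · rintro ⟨θ, h1, h2⟩
    rw [hB] at h1
    rw [hc'] at h2
    have h1' : m θ ≠ 0 := by exact_mod_cast h1
    have h2' : c θ ≠ 0 := by exact_mod_cast h2
    intro h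
    have h' : ∑ γ : IrrCharacter N, m γ * c γ = 0 := by exact_mod_cast h
    exact mul_ne_zero h1' h2' ((Finset.sum_eq_zero_iff.1 h') θ (Finset.mem_univ θ))

/-- A character of degree prime to the abelianization restricts irreducibly to the derived subgroup. -/
theorem res_irr [Fintype N] {M : Subgroup G} [Fintype M] (hM : M = ⁅N, N⁆) (hMN : M ≤ N) (θ : IrrCharacter N)
    (hd : (charDegree (θ : N → ℂ)).Coprime (commutator N).index) :
    IsIrrCharacter M (res hMN (θ : N → ℂ)) := by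
  classical
  have hsub : M.subgroupOf N = commutator N := by
    rw [hM, ← Subgroup.map_subtype_commutator N]
    exact Subgroup.comap_map_eq_self_of_injective N.subtype_injective _
  haveI : (M.subgroupOf N).Normal := by rw [hsub]; infer_instance
  haveI := Fintype.ofFinite (M.subgroupOf N)
  have h := ThreeDeg.restrict_of_coprime (M.subgroupOf N) θ (by rw [hsub]; exact hd)
  exact CharClifford.isIrrCharacter_comp_equiv (Subgroup.subgroupOfEquivOfLe hMN).symm h

/-- One component is complete and the other has diameter at most two. -/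
theorem shape [Fintype N] [Group.IsSolvable N] (hNG : N ≤ commutator G)
    (hdisc : ¬ (Cfsg.commonDivisorGraph.induce (relCharDegrees N)).Preconnected) :
    ∃ b₀ : ↥(relCharDegrees N),
      (∀ b c : ↥(relCharDegrees N),
        (Cfsg.commonDivisorGraph.induce (relCharDegrees N)).Reachable b₀ b →
        (Cfsg.commonDivisorGraph.induce (relCharDegrees N)).Reachable b₀ c → b ≠ c →
        (Cfsg.commonDivisorGraph.induce (relCharDegrees N)).Adj b c) ∧
      ∀ b c : ↥(relCharDegrees N),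
        ¬ (Cfsg.commonDivisorGraph.induce (relCharDegrees N)).Reachable b₀ b →
        ¬ (Cfsg.commonDivisorGraph.induce (relCharDegrees N)).Reachable b₀ c → b ≠ c →
        (Cfsg.commonDivisorGraph.induce (relCharDegrees N)).Adj b c ∨
          ∃ d : ↥(relCharDegrees N), (Cfsg.commonDivisorGraph.induce (relCharDegrees N)).Adj b d ∧
            (Cfsg.commonDivisorGraph.induce (relCharDegrees N)).Adj d c := by
  classical
  set Γ := Cfsg.commonDivisorGraph.induce (relCharDegrees N)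
  simp only [SimpleGraph.Preconnected, not_forall] at hdisc
  obtain ⟨u, v, huv⟩ := hdisc
  have hpos : ∀ a ∈ relCharDegrees N, 0 < a := fun a ha => Nat.zero_lt_of_lt (rel_gt_one hNG ha)
  have hN1 : (commutator N).index ≠ 1 := by
    have hne : Nontrivial N := by
      obtain ⟨χ, ⟨x, hx, hne⟩, -⟩ := u.2
      refine ⟨⟨⟨x, hx⟩, 1, fun h => hne ?_⟩⟩
      rw [show x = 1 from congrArg Subtype.val h]
    intro h
    exact (Group.IsSolvable.commutator_lt_top_of_nontrivial N).ne (Subgroup.index_eq_one.1 h)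
  obtain ⟨r, hr, hrm⟩ := Nat.exists_prime_and_dvd hN1
  set m := (commutator N).index with hm
  have hdich : ∀ x y : ↥(relCharDegrees N), ¬ Γ.Reachable x y →
      (Nat.Coprime x m ∧ ∀ s : ℕ, s.Prime → s ∣ m → s ∣ (y : ℕ)) ∨
        (Nat.Coprime y m ∧ ∀ s : ℕ, s.Prime → s ∣ m → s ∣ (x : ℕ)) :=
    fun x y h => dichotomy hNG x.2 y.2 fun hl => h (lk_reachable x.2 y.2 hl)
  have hnot : ∀ x : ℕ, (∀ s : ℕ, s.Prime → s ∣ m → s ∣ x) → ¬ x.Coprime m := fun x h hc =>
    hr.ne_one (Nat.eq_one_of_dvd_coprimes hc (h r hr hrm) hrm)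
  obtain ⟨a₀, b₀, hab, ha₀, hb₀⟩ : ∃ a b : ↥(relCharDegrees N), ¬ Γ.Reachable a b ∧
      Nat.Coprime a m ∧ ∀ s : ℕ, s.Prime → s ∣ m → s ∣ (b : ℕ) := by
    rcases hdich u v huv with ⟨h1, h2⟩ | ⟨h1, h2⟩
    · exact ⟨u, v, huv, h1, h2⟩
    · exact ⟨v, u, fun h => huv h.symm, h1, h2⟩
  have hcls : ∀ x : ↥(relCharDegrees N), (Γ.Reachable a₀ x ↔ Nat.Coprime x m) ∧
      (¬ Nat.Coprime x m → ∀ s : ℕ, s.Prime → s ∣ m → s ∣ (x : ℕ)) := by
    intro x
    have h1 : Γ.Reachable a₀ x → Nat.Coprime x m := fun hx => by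
      rcases hdich x b₀ (fun h => hab (hx.trans h)) with ⟨h, -⟩ | ⟨h, -⟩
      · exact h
      · exact absurd h (hnot _ hb₀)
    refine ⟨⟨h1, fun hx => ?_⟩, fun hx => ?_⟩
    · by_contra h
      rcases hdich a₀ x h with ⟨-, h'⟩ | ⟨-, h'⟩
      · exact hnot _ h' hx
      · exact hnot _ h' ha₀
    · rcases hdich a₀ x (fun h => hx (h1 h)) with ⟨-, h'⟩ | ⟨h', -⟩
      · exact h'
      · exact absurd h' hx
  have hstep : ∀ x y : ℕ, x ∈ relCharDegrees N → y ∈ relCharDegrees N → x.Coprime m → 1 < Nat.gcd x y →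
      y.Coprime m := by
    intro x y hx hy hxm hxy
    exact (hcls ⟨y, hy⟩).1.1 (((hcls ⟨x, hx⟩).1.2 hxm).trans (lk_reachable hx hy (lk_of hx hy hxy)))
  have hsep : ∀ x ∈ relCharDegrees N, x.Coprime m → ∀ y ∈ relCharDegrees N, ¬ y.Coprime m → x.Coprime y := by
    intro x hx hxm y hy hym
    by_contra h
    exact hym (hstep x y hx hy hxm (lt_of_le_of_ne (Nat.gcd_pos_of_pos_left y (hpos x hx)) (Ne.symm h)))
  have hlkm : ∀ {x y : ℕ}, Lk N x y → x.Coprime m → y.Coprime m := by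
    intro x y h hx
    induction h with
    | refl => exact hx
    | tail _ hs ih => exact hstep _ _ hs.1 hs.2.1 ih hs.2.2
  have hfix : ∀ y : N →* ℂˣ, (∀ g : G, cj N g y = y) → y = 1 := fun y hy =>
    no_invariant hNG a₀.2 ha₀ (hsep a₀ a₀.2 ha₀) hy
  have hne1 : ∀ y : N →* ℂˣ, y ≠ 1 → (St N y).index ≠ 1 := fun y hy h =>
    hy (hfix y fun g => st_index_one h g)
  have hadj : ∀ x y : ↥(relCharDegrees N), x ≠ y → ∀ s : ℕ, s ≠ 1 → s ∣ (x : ℕ) → s ∣ (y : ℕ) → Γ.Adj x y :=
    fun x y hxy s hs h1 h2 =>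
      ⟨fun e => hxy (Subtype.ext e), one_lt_gcd hs h1 h2 (hpos x x.2)⟩
  refine ⟨b₀, fun b c hb hc hbc => ?_, fun b c hb hc hbc => ?_⟩
  · have key : ∀ x : ↥(relCharDegrees N), Γ.Reachable b₀ x → r ∣ (x : ℕ) := fun x hx =>
      (hcls x).2 (fun h => hab (((hcls x).1.2 h).trans hx.symm)) r hr hrm
    exact hadj b c hbc r hr.ne_one (key b hb) (key c hc)
  have hA : ∀ x : ↥(relCharDegrees N), ¬ Γ.Reachable b₀ x → Nat.Coprime x m := fun x hx => by
    rcases hdich b₀ x hx with ⟨h, -⟩ | ⟨h, -⟩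
    · exact absurd h (hnot _ hb₀)
    · exact h
  have hbm := hA b hb
  have hcm := hA c hc
  by_cases hgcd : Nat.Coprime (b : ℕ) c
  swap
  · exact Or.inl ⟨fun e => hbc (Subtype.ext e),
      lt_of_le_of_ne (Nat.gcd_pos_of_pos_left _ (hpos b b.2)) (Ne.symm hgcd)⟩
  refine Or.inr ?_
  -- a common neighbour from a degree sharing a factor with both
  suffices h : ∃ d ∈ relCharDegrees N, ∃ s t : ℕ, s ≠ 1 ∧ t ≠ 1 ∧ s ∣ (b : ℕ) ∧ s ∣ d ∧ t ∣ (c : ℕ) ∧ t ∣ d by
    obtain ⟨d, hd, s, t, hs, ht, hsb, hsd, htc, htd⟩ := h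
    refine ⟨⟨d, hd⟩, hadj b ⟨d, hd⟩ ?_ s hs hsb hsd, hadj ⟨d, hd⟩ c ?_ t ht htd htc⟩
    · intro e
      exact ht (Nat.eq_one_of_dvd_coprimes hgcd ((congrArg Subtype.val e) ▸ htd) htc)
    · intro e
      exact hs (Nat.eq_one_of_dvd_coprimes hgcd hsb ((congrArg Subtype.val e) ▸ hsd))
  haveI := finite_dual (N := N)
  obtain ⟨χ, hχN, hχ⟩ := b.2
  obtain ⟨θ, hθ, hθt⟩ := exists_under hχN
  obtain ⟨hIb, hdb⟩ := deg_data hθ
  rw [hχ] at hIb hdb
  obtain ⟨χ', hχN', hχ'⟩ := c.2
  obtain ⟨θ', hθ', hθt'⟩ := exists_under hχN'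
  obtain ⟨hIc, hdc⟩ := deg_data hθ'
  rw [hχ'] at hIc hdc
  -- the mixed case
  have mixed : ∀ (x : ℕ) (θ₁ : IrrCharacter N) (y : N →* ℂˣ), x.Coprime m → charDegree (θ₁ : N → ℂ) ∣ x →
      charDegree (θ₁ : N → ℂ) ≠ 1 → y ≠ 1 →
      ∃ d ∈ relCharDegrees N, ∃ t : ℕ, t ≠ 1 ∧ t ∣ (St N y).index ∧ t ∣ d ∧ charDegree (θ₁ : N → ℂ) ∣ d := by
    intro x θ₁ y hxm hdx hd1 hy1
    obtain ⟨q, hq, hqy⟩ := Nat.exists_prime_and_dvd (fun h => hy1 (eq_one_of_ord h))
    obtain ⟨e, f, k, n, hn, hef, hxe, hxf⟩ := exists_parts y hq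
    have hne : y ^ e ≠ 1 := fun h => hn (by
      have h4 : y = y ^ f := by
        conv_lhs => rw [← hef, h]
        exact MonoidHom.ext fun x => by simp
      exact hqy.trans (ord_dvd (by rw [h4]; exact hxf)))
    have hqd : ¬ q ∣ charDegree (θ₁ : N → ℂ) := fun h =>
      hq.ne_one (Nat.eq_one_of_dvd_coprimes hxm (h.trans hdx) (prime_dvd_index hqy))
    obtain ⟨ρ, n', hn', hρ⟩ := exists_canonical θ₁ hq hqd
    obtain ⟨φ, hφ⟩ := exists_irr_over N (tw (y ^ e) (tw ρ θ₁)).2
    obtain ⟨hI, hD⟩ := deg_data hφ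
    rw [deg_tw, deg_tw] at hD
    refine ⟨_, mem_rel hφ fun ht => hd1 ?_, _, hne1 _ hne, Subgroup.index_dvd_of_le (st_le_pow y e), ?_, hD⟩
    · rw [← deg_tw ρ θ₁, ← deg_tw (y ^ e) (tw ρ θ₁),
        show (tw (y ^ e) (tw ρ θ₁) : N → ℂ) = fun _ => 1 from funext ht, charDegree_one]
    · refine (Subgroup.index_dvd_of_le fun g hg => ?_).trans hI
      exact (mem_St N).2 (inert_le hq hn' (by rw [deg_tw]; exact hqd) hρ hxe hg).2
  -- a linear constituent gives an orbit length
  have hlin : ∀ (x : ℕ) (θ₁ : IrrCharacter N), ¬ IsTriv θ₁ → charDegree (θ₁ : N → ℂ) = 1 →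
      (inertia N (θ₁ : N → ℂ)).index ∣ x → dt θ₁ ≠ 1 ∧ (St N (dt θ₁)).index ∣ x := by
    intro x θ₁ ht hd1 hI
    refine ⟨fun h => ht fun n => by rw [eq_lirr hd1, h]; simp [lirr, lf], ?_⟩
    refine (Subgroup.index_dvd_of_le fun g hg => ?_).trans hI
    exact (mem_St N).2 (dt_conj_eq hg)
  by_cases h1 : charDegree (θ : N → ℂ) = 1 <;> by_cases h2 : charDegree (θ' : N → ℂ) = 1
  · obtain ⟨hx1, hxb⟩ := hlin b θ hθt h1 hIb
    obtain ⟨hy1, hyc⟩ := hlin c θ' hθt' h2 hIc
    set x := dt θ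
    set y := dt θ'
    have hco : ((St N x).index).Coprime (St N y).index := (hgcd.coprime_dvd_left hxb).coprime_dvd_right hyc
    have e1 := shared_factor hfix hco (hcm.coprime_dvd_left hyc) hx1
    have e2 := shared_factor hfix hco.symm (hbm.coprime_dvd_left hxb) hy1
    rw [mul_comm y x] at e1
    obtain ⟨φ, hφ⟩ := exists_irr_over N (lirr (x * y)).2
    have hT : (St N (x * y)).index ∣ charDegree (φ : G → ℂ) := by
      refine (Subgroup.index_dvd_of_le fun g hg => ?_).trans (deg_data hφ).1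
      exact (mem_St N).2 (lf_inj (by rw [lf_cj]; exact hg))
    refine ⟨_, mem_rel hφ fun ht => e1 ?_, _, _, e1, e2,
      (Nat.gcd_dvd_right _ _).trans hxb, (Nat.gcd_dvd_left _ _).trans hT,
      (Nat.gcd_dvd_right _ _).trans hyc, (Nat.gcd_dvd_left _ _).trans hT⟩
    have hxy : x * y = 1 := MonoidHom.ext fun n => Units.ext (ht n)
    rw [hxy, show St N (1 : N →* ℂˣ) = ⊤ from top_le_iff.1 fun g _ => (mem_St N).2
      (MonoidHom.ext fun _ => rfl), Subgroup.index_top]
    exact Nat.coprime_one_left _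
  · obtain ⟨hx1, hxb⟩ := hlin b θ hθt h1 hIb
    obtain ⟨d, hd, t, ht, htx, htd, hθd⟩ := mixed c θ' (dt θ) hcm hdc h2 hx1
    exact ⟨d, hd, t, _, ht, h2, htx.trans hxb, htd, hdc, hθd⟩
  · obtain ⟨hy1, hyc⟩ := hlin c θ' hθt' h2 hIc
    obtain ⟨d, hd, t, ht, hty, htd, hθd⟩ := mixed b θ (dt θ') hbm hdb h1 hy1
    exact ⟨d, hd, _, t, h1, ht, hdb, hθd, hty.trans hyc, htd⟩
  · -- two nonlinear constituents: a common prime of the second derived factor
    exfalso
    set M : Subgroup G := ⁅N, N⁆ with hM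
    have hMN : M ≤ N := Subgroup.commutator_le_self N
    haveI := Fintype.ofFinite M
    have hMG : M ≤ commutator G := hMN.trans hNG
    have hsub : relCharDegrees M ⊆ relCharDegrees N :=
      fun d ⟨φ, ⟨x, hx, hne⟩, hd⟩ => ⟨φ, ⟨x, hMN hx, hne⟩, hd⟩
    have hin : ∀ (x : ℕ) (ξ : IrrCharacter G) (θ₁ : IrrCharacter N), x.Coprime m → charDegree (ξ : G → ℂ) = x →
        classInner (fun n : N => (ξ : G → ℂ) n) (θ₁ : N → ℂ) ≠ 0 → charDegree (θ₁ : N → ℂ) ∣ x →
        charDegree (θ₁ : N → ℂ) ≠ 1 → x ∈ relCharDegrees M := by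
      intro x ξ θ₁ hxm hξ hov hdx hd1
      have hirr := res_irr hM hMN θ₁ (hxm.coprime_dvd_left hdx)
      have h := (over_iff hMN ξ ⟨_, hirr⟩).2 ⟨θ₁, hov, by
        show classInner (res hMN (θ₁ : N → ℂ)) (res hMN (θ₁ : N → ℂ)) ≠ 0
        rw [classInner_irr_self hirr]; exact one_ne_zero⟩
      exact hξ ▸ mem_rel h fun ht => hd1 (charDegree_eq_of_apply_one
        ((ht 1).trans Nat.cast_one.symm))
    have hbM := hin b χ θ hbm hχ hθ hdb h1
    have hcM := hin c χ' θ' hcm hχ' hθ' hdc h2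
    haveI : Group.IsSolvable M := Group.isSolvable_of_isSolvable_injective (Subgroup.inclusion_injective hMN)
    have hM1 : (commutator M).index ≠ 1 := by
      have hne : Nontrivial M := by
        obtain ⟨ξ, ⟨x, hx, hne⟩, -⟩ := hbM
        refine ⟨⟨⟨x, hx⟩, 1, fun h => hne ?_⟩⟩
        rw [show x = 1 from congrArg Subtype.val h]
      intro h
      exact (Group.IsSolvable.commutator_lt_top_of_nontrivial M).ne (Subgroup.index_eq_one.1 h)
    obtain ⟨s, hs, hsm⟩ := Nat.exists_prime_and_dvd hM1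
    obtain ⟨μ, hμ⟩ := exists_base hMG hs hsm
    have hμm : ¬ Nat.Coprime μ m := by
      obtain ⟨l, φ, hl1, -, hov, hφμ, -⟩ := hμ
      obtain ⟨θ₁, h3, h4⟩ := (over_iff hMN φ (lirr l)).1 hov
      intro hco
      obtain ⟨-, hdμ⟩ := deg_data h3
      rw [hφμ] at hdμ
      have hirr := res_irr hM hMN θ₁ (hco.coprime_dvd_left hdμ)
      have heq : res hMN (θ₁ : N → ℂ) = (lirr l : M → ℂ) := by
        by_contra hne
        exact h4 (classInner_irr_ne hirr (lirr l).2 hne)
      have hd1 : charDegree (θ₁ : N → ℂ) = 1 := charDegree_eq_of_apply_one (by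
        rw [show (θ₁ : N → ℂ) 1 = res hMN (θ₁ : N → ℂ) 1 from rfl, heq]; simp [lirr, lf])
      refine hl1 (MonoidHom.ext fun n => Units.ext ?_)
      have hn : (⟨(n : G), hMN n.2⟩ : N) ∈ commutator N := by
        have hn2 : (n : G) ∈ (commutator N).map N.subtype := by
          rw [Subgroup.map_subtype_commutator]; exact hM.le n.2
        obtain ⟨w, hw, e⟩ := hn2
        rwa [show (⟨(n : G), hMN n.2⟩ : N) = w from Subtype.ext e.symm]
      calc (l n : ℂ) = res hMN (θ₁ : N → ℂ) n := by rw [heq]; rfl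
        _ = ((dt θ₁ ⟨(n : G), hMN n.2⟩ : ℂˣ) : ℂ) := by
          show (θ₁ : N → ℂ) _ = _
          conv_lhs => rw [eq_lirr hd1]
          rfl
        _ = 1 := by rw [MonoidHom.mem_ker.1 (Abelianization.commutator_subset_ker _ hn), Units.val_one]
    obtain ⟨l, φ, hl1, -, hov, hφμ, hlink⟩ := hμ
    have hlk : ∀ x ∈ relCharDegrees M, x.Coprime m → s ∣ x := by
      intro x hx hxm
      by_contra hsx
      refine hμm (hlkm ?_ hxm)
      have hmono : ∀ {p q : ℕ}, Lk M p q → Lk N p q := fun h => by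
        induction h with
        | refl => exact Relation.ReflTransGen.refl
        | tail _ h ih => exact Relation.ReflTransGen.tail ih ⟨hsub h.1, hsub h.2.1, h.2.2⟩
      exact hmono (hlink x hx hsx)
    exact hs.ne_one (Nat.eq_one_of_dvd_coprimes hgcd (hlk b hbM hbm) (hlk c hcM hcm))

end Cfsg.Agent.Lib.Char.RelGraph
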