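import Cfsg.Agent.Lib.Char.ThreeDeg.Tools
import Cfsg.Agent.Lib.CharClifford.Linear
import Cfsg.Agent.Lib.Char.Ito
import Cfsg.Agent.Lib.Char.Linear
import Cfsg.Prelude.Def_DegreeGraph
import Mathlib.GroupTheory.Sylow
import Mathlib.GroupTheory.Transfer

/-!
# Twisting by linear characters, determinants and extensions

For a normal subgroup `N ≤ G'`, a linear character of `N` that is invariant and extends to a
subgroup of index prime to its order is trivial.  Characters of degree prime to `q` give such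
extensions for determinants.
-/

set_option autoImplicit false
set_option linter.unusedSectionVars false
set_option linter.style.haveILetI false

namespace Cfsg.Agent.Lib.Char.RelGraph

open Cfsg Cfsg.Agent.Lib Cfsg.Agent.Lib.Char
open Cfsg.Agent.Lib.Char.TwoDegPrime (lf lf_inj cj lf_cj cj_apply cj_prod cj_mul cj_one St mem_St)

universe u

variable {G : Type u} [Group G] [Fintype G] {N : Subgroup G} [N.Normal]

/-- The determinant of an irreducible character, as a homomorphism. -/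
noncomputable def dt (θ : IrrCharacter N) : N →* ℂˣ :=
  CharClifford.detHom (Classical.choose (Classical.choose_spec (CharClifford.exists_detHom θ.2)))

theorem dt_spec (θ : IrrCharacter N) (n : N) : (dt θ n : ℂ) = detChar (θ : N → ℂ) n :=
  ((Classical.choose_spec (Classical.choose_spec (CharClifford.exists_detHom θ.2))).2.2.2 n).symm

theorem dt_eq (θ : IrrCharacter N) {k : ℕ} (ρ : Representation ℂ N (Fin k → ℂ))
    (h : ρ.character = (θ : N → ℂ)) (n : N) : (dt θ n : ℂ) = LinearMap.det (ρ n) := by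
  haveI : ρ.IsIrreducible := CharClifford.isIrreducible_of_isIrrCharacter ρ (h ▸ θ.2)
  rw [dt_spec, ← h, CharClifford.detChar_character ρ]

/-- The conjugate of a character of `N`. -/
noncomputable def cθ (g : G) (θ : IrrCharacter N) : IrrCharacter N :=
  ⟨conjChar N g θ, isIrrCharacter_conjChar N g θ.2⟩

/-- The twist of a character of `N` by a linear character. -/
noncomputable def tw (l : N →* ℂˣ) (θ : IrrCharacter N) : IrrCharacter N :=
  ⟨lf l * (θ : N → ℂ), isIrrCharacter_linear_mul θ.2 l⟩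

theorem cθ_tw (g : G) (l : N →* ℂˣ) (θ : IrrCharacter N) : cθ g (tw l θ) = tw (cj N g l) (cθ g θ) :=
  Subtype.ext (by
    show conjChar N g (lf l * (θ : N → ℂ)) = lf (cj N g l) * conjChar N g θ
    rw [lf_cj]; rfl)

theorem tw_one (θ : IrrCharacter N) : tw 1 θ = θ := Subtype.ext (funext fun n => by simp [tw, lf])

theorem tw_tw (l m : N →* ℂˣ) (θ : IrrCharacter N) : tw l (tw m θ) = tw (l * m) θ :=
  Subtype.ext (funext fun n => by simp [tw, lf, mul_assoc])

theorem deg_tw (l : N →* ℂˣ) (θ : IrrCharacter N) :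
    charDegree (tw l θ : N → ℂ) = charDegree (θ : N → ℂ) :=
  charDegree_eq_of_apply_one (by
    show lf l 1 * (θ : N → ℂ) 1 = _
    rw [apply_one_eq_charDegree (isCharacter_of_isIrr θ.2)]; simp [lf])

theorem dt_conj (g : G) (θ : IrrCharacter N) : dt (cθ g θ) = cj N g (dt θ) := by
  obtain ⟨k, ρ, hρ, hch⟩ := θ.2
  refine MonoidHom.ext fun n => Units.ext ?_
  rw [dt_eq (cθ g θ) (ρ.comp (MulAut.conjNormal g : N ≃* N).toMonoidHom) ?_ n]
  · show _ = (dt θ _ : ℂ)
    rw [dt_eq θ ρ hch]; rfl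
  · show _ = conjChar N g θ
    rw [← hch, conjChar_eq_comp]; rfl

theorem dt_tw (l : N →* ℂˣ) (θ : IrrCharacter N) :
    dt (tw l θ) = l ^ charDegree (θ : N → ℂ) * dt θ := by
  obtain ⟨k, ρ, hρ, hch⟩ := θ.2
  have hk : charDegree (θ : N → ℂ) = k :=
    charDegree_eq_of_apply_one (by rw [← hch, Representation.char_one, Module.finrank_fin_fun])
  let σ : Representation ℂ N (Fin k → ℂ) :=
    { toFun := fun n => (l n : ℂ) • ρ n
      map_one' := by simp
      map_mul' := fun x y => by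
        rw [map_mul, map_mul, Units.val_mul, smul_mul_assoc, mul_smul_comm, smul_smul] }
  refine MonoidHom.ext fun n => Units.ext ?_
  rw [dt_eq (tw l θ) σ ?_ n]
  · show LinearMap.det ((l n : ℂ) • ρ n) = _
    rw [LinearMap.det_smul, Module.finrank_fin_fun, MonoidHom.mul_apply, MonoidHom.pow_apply,
      Units.val_mul, Units.val_pow_eq_pow_val, dt_eq θ ρ hch, hk]
  · funext x
    show LinearMap.trace ℂ _ ((l x : ℂ) • ρ x) = (lf l * (θ : N → ℂ)) x
    rw [map_smul, Pi.mul_apply, ← hch]; rfl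

theorem dt_of_deg_one {θ : IrrCharacter N} {l : N →* ℂˣ} (h : (θ : N → ℂ) = lf l) : dt θ = l := by
  obtain ⟨k, ρ, hρ, hch⟩ := θ.2
  have hk : k = 1 := by
    have h1 := congrFun (hch.trans h) 1
    rw [Representation.char_one, Module.finrank_fin_fun] at h1
    have : (k : ℂ) = 1 := by rw [h1]; simp [lf]
    exact_mod_cast this
  subst hk
  refine MonoidHom.ext fun n => Units.ext ?_
  rw [dt_eq θ ρ hch]
  have h2 := congrFun (hch.trans h) n
  show _ = lf l n
  rw [← h2, Representation.character, LinearMap.trace_eq_matrix_trace ℂ (Pi.basisFun ℂ (Fin 1)),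
    Matrix.trace_fin_one, ← LinearMap.det_toMatrix (Pi.basisFun ℂ (Fin 1)), Matrix.det_fin_one]

/-- `μ` extends `α`. -/
def Ext (H : Subgroup G) (hNH : N ≤ H) (α : N →* ℂˣ) : Prop :=
  ∃ ν : H →* ℂˣ, ∀ n : N, ν ⟨(n : G), hNH n.2⟩ = α n

theorem Ext.pow {H : Subgroup G} {hNH : N ≤ H} {α : N →* ℂˣ} (h : Ext H hNH α) (m : ℕ) :
    Ext H hNH (α ^ m) := by
  obtain ⟨ν, hν⟩ := h
  exact ⟨ν ^ m, fun n => by rw [MonoidHom.pow_apply, hν, MonoidHom.pow_apply]⟩

theorem Ext.div {H : Subgroup G} {hNH : N ≤ H} {α β : N →* ℂˣ} (h : Ext H hNH α)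
    (h' : Ext H hNH β) : Ext H hNH (α / β) := by
  obtain ⟨ν, hν⟩ := h
  obtain ⟨ν', hν'⟩ := h'
  exact ⟨ν / ν', fun n => by rw [MonoidHom.div_apply, hν, hν', MonoidHom.div_apply]⟩

/-- A `q`-intermediate subgroup. -/
theorem exists_step (I : Subgroup G) (hNI : N ≤ I) {q : ℕ} [Fact q.Prime] :
    ∃ H : Subgroup G, N ≤ H ∧ H ≤ I ∧ (∃ k, N.relIndex H = q ^ k) ∧
      ∀ _ : ¬ q ∣ I.index, ¬ q ∣ H.index := by
  classical
  obtain ⟨S⟩ : Nonempty (Sylow q (I ⧸ N.subgroupOf I)) := inferInstance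
  set f := QuotientGroup.mk' (N.subgroupOf I)
  set H₀ := (S : Subgroup (I ⧸ N.subgroupOf I)).comap f with hH₀
  refine ⟨H₀.map I.subtype, ?_, Subgroup.map_subtype_le _, ?_, fun hI hd => ?_⟩
  · intro x hx
    refine ⟨⟨x, hNI hx⟩, ?_, rfl⟩
    show f ⟨x, hNI hx⟩ ∈ (S : Subgroup _)
    rw [show f ⟨x, hNI hx⟩ = 1 from (QuotientGroup.eq_one_iff _).2 hx]
    exact one_mem _
  · obtain ⟨k, hk⟩ := IsPGroup.iff_card.1 S.2
    refine ⟨k, ?_⟩
    have h1 : N.relIndex (H₀.map I.subtype) = (N.subgroupOf I).relIndex H₀ := by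
      rw [Subgroup.subgroupOf, Subgroup.relIndex_comap]
    rw [h1, ← hk]
    have h2 := Subgroup.relIndex_ker H₀ f
    rwa [QuotientGroup.ker_mk', hH₀,
      Subgroup.map_comap_eq_self_of_surjective (QuotientGroup.mk'_surjective _)] at h2
  · rw [Subgroup.index_map_subtype] at hd
    rcases (Fact.out : q.Prime).dvd_mul.1 hd with h | h
    · rw [hH₀, Subgroup.index_comap_of_surjective _ (QuotientGroup.mk'_surjective _)] at h
      exact S.not_dvd_index h
    · exact hI h

/-- The determinant of `θ` extends to `q`-extensions inside the inertia group when some character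
over `θ` has degree prime to `q`. -/
theorem ext_dt [Fintype N] {θ : IrrCharacter N} {φ : IrrCharacter G}
    (hov : classInner (fun n : N => (φ : G → ℂ) n) (θ : N → ℂ) ≠ 0) {q : ℕ} (hq : q.Prime)
    (hφ : ¬ q ∣ charDegree (φ : G → ℂ)) {H : Subgroup G} (hNH : N ≤ H)
    (hHI : H ≤ inertia N (θ : N → ℂ)) (hk : ∃ k, N.relIndex H = q ^ k) : Ext H hNH (dt θ) := by
  classical
  obtain ⟨ψ, hψ, hind, e, he, hψN⟩ := exists_clifford_correspondent N φ.2 θ.2 hov
  let I := inertia N (θ : N → ℂ)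
  haveI := Fintype.ofFinite I
  haveI := Fintype.ofFinite H
  haveI := Fintype.ofFinite (N.subgroupOf H)
  have hψq : ¬ q ∣ charDegree ψ := fun h => hφ (by
    rw [← hind, charDegree_indFun _ (isCharacter_of_isIrr hψ)]; exact h.trans (dvd_mul_left _ _))
  have hψH : IsCharacter H (fun x : H => ψ ⟨x, hHI x.2⟩) :=
    isCharacter_comp (isCharacter_of_isIrr hψ) (Subgroup.inclusion hHI)
  obtain ⟨m, hm⟩ := isCharacter_eq_sum hψH
  obtain ⟨ξ, hξm, hξq⟩ : ∃ ξ : IrrCharacter H, m ξ ≠ 0 ∧ ¬ q ∣ charDegree (ξ : H → ℂ) := by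
    by_contra hcon
    push Not at hcon
    refine hψq ?_
    have h1 := congrFun hm 1
    simp only [Finset.sum_apply, Pi.smul_apply, smul_eq_mul,
      apply_one_eq_charDegree (isCharacter_of_isIrr (Subtype.prop _))] at h1
    have h2 : ψ ⟨((1 : H) : G), hHI (1 : H).2⟩ = (charDegree ψ : ℂ) := by
      rw [← apply_one_eq_charDegree (isCharacter_of_isIrr hψ)]; rfl
    rw [h2] at h1
    have h3 : charDegree ψ = ∑ ξ : IrrCharacter H, m ξ * charDegree (ξ : H → ℂ) := by exact_mod_cast h1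
    rw [h3]
    refine Finset.dvd_sum fun ξ _ => ?_
    rcases eq_or_ne (m ξ) 0 with h0 | h0
    · rw [h0, zero_mul]; exact dvd_zero q
    · exact dvd_mul_of_dvd_right (hcon ξ h0) _
  obtain ⟨k, hk⟩ := hk
  have hirr : IsIrrCharacter (N.subgroupOf H) (fun n : N.subgroupOf H => (ξ : H → ℂ) n) :=
    ThreeDeg.restrict_of_coprime (N.subgroupOf H) ξ (by
      rw [show (N.subgroupOf H).index = q ^ k from hk]
      exact Nat.Coprime.pow_right k ((hq.coprime_iff_not_dvd.2 hξq).symm))
  set E := Subgroup.subgroupOfEquivOfLe hNH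
  set ξN : N → ℂ := fun n => (ξ : H → ℂ) ⟨(n : G), hNH n.2⟩ with hξN
  have hξNi : IsIrrCharacter N ξN := CharClifford.isIrrCharacter_comp_equiv E.symm hirr
  -- the restriction is `θ`
  have heq : ξN = (θ : N → ℂ) := by
    by_contra hne
    have h1 : classInner ((e : ℂ) • (θ : N → ℂ)) ξN = 0 := by
      rw [classInner_smul_left, classInner_irr_ne θ.2 hξNi (Ne.symm hne), mul_zero]
    have h2 : ((e : ℂ) • (θ : N → ℂ)) =
        ∑ γ : IrrCharacter H, (m γ : ℂ) • (fun n : N => (γ : H → ℂ) ⟨(n : G), hNH n.2⟩) := by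
      funext n
      have := congrFun hm ⟨(n : G), hNH n.2⟩
      simp only [Finset.sum_apply, Pi.smul_apply, smul_eq_mul] at this ⊢
      rw [← this, ← hψN n]
    rw [h2, classInner_sum_left] at h1
    simp only [classInner_smul_left] at h1
    have hc : ∀ γ : IrrCharacter H, IsCharacter N (fun n : N => (γ : H → ℂ) ⟨(n : G), hNH n.2⟩) :=
      fun γ => isCharacter_comp (isCharacter_of_isIrr γ.2) (Subgroup.inclusion hNH)
    choose c hc' using fun γ => classInner_natCast (hc γ) (isCharacter_of_isIrr hξNi)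
    simp only [hc'] at h1
    have h3 : ∑ γ : IrrCharacter H, m γ * c γ = 0 := by exact_mod_cast h1
    have h4 := (Finset.sum_eq_zero_iff.1 h3) ξ (Finset.mem_univ ξ)
    have h5 : c ξ = 1 := by
      have h6 := hc' ξ
      rw [show (fun n : N => (ξ : H → ℂ) ⟨(n : G), hNH n.2⟩) = ξN from rfl,
        classInner_irr_self hξNi] at h6
      exact_mod_cast h6.symm
    rw [h5, mul_one] at h4
    exact hξm h4
  obtain ⟨j, ρ, hρ, hch⟩ := ξ.2
  refine ⟨CharClifford.detHom ρ, fun n => Units.ext ?_⟩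
  rw [CharClifford.detHom_apply,
    dt_eq θ (ρ.comp (Subgroup.inclusion hNH)) (heq ▸ funext fun x => congrFun hch _)]
  rfl

/-- An invariant linear character of `q`-power order of `N ≤ G'` extending to a subgroup of index
prime to `q` is trivial. -/
theorem trivial_of_ext (hNG : N ≤ commutator G) {α : N →* ℂˣ} (hinv : ∀ g : G, cj N g α = α)
    {q k : ℕ} (hq : q.Prime) (hα : α ^ q ^ k = 1) {H : Subgroup G} {hNH : N ≤ H}
    (hH : ¬ q ∣ H.index) (hext : Ext H hNH α) : α = 1 := by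
  obtain ⟨ν, hν⟩ := hext
  obtain ⟨μ, hμ⟩ := CharClifford.exists_extension_of_local α (fun g n => by
    rw [← cj_apply, hinv]) (fun p hp hpd => by
      have h1 : p = q := (Nat.prime_dvd_prime_iff_eq hp hq).1
        (hp.dvd_of_dvd_pow (hpd.trans (orderOf_dvd_of_pow_eq_one hα)))
      exact ⟨H, hNH, ν, h1 ▸ (hq.coprime_iff_not_dvd.2 hH).symm, hν⟩)
  refine MonoidHom.ext fun n => ?_
  rw [← hμ n, MonoidHom.one_apply]
  exact Abelianization.commutator_subset_ker μ (hNG n.2)

/-- The prime `q` divides the degrees over a linear character some power of which is invariant,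
nontrivial, of `q`-power order. -/
theorem dvd_of_over_linear [Fintype N] (hNG : N ≤ commutator G) {θ : IrrCharacter N} {x : N →* ℂˣ}
    (hx : dt θ = x) {φ : IrrCharacter G}
    (hov : classInner (fun n : N => (φ : G → ℂ) n) (θ : N → ℂ) ≠ 0) {m q k : ℕ} (hq : q.Prime)
    (hinv : ∀ g : G, cj N g (x ^ m) = x ^ m) (hα : (x ^ m) ^ q ^ k = 1) (hne : x ^ m ≠ 1) :
    q ∣ charDegree (φ : G → ℂ) := by
  haveI := Fact.mk hq
  by_contra hnd
  have hle := le_inertia N (isClassFunction_of_isIrr θ.2)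
  obtain ⟨ψ, hψ, hind, -⟩ := exists_clifford_correspondent N φ.2 θ.2 hov
  have hI : ¬ q ∣ (inertia N (θ : N → ℂ)).index := fun h => hnd (by
    haveI := Fintype.ofFinite (inertia N (θ : N → ℂ))
    rw [← hind, charDegree_indFun _ (isCharacter_of_isIrr hψ)]; exact h.trans (dvd_mul_right _ _))
  obtain ⟨H, hNH, hHI, hk', hHq⟩ := exists_step (inertia N (θ : N → ℂ)) hle (q := q)
  exact hne (trivial_of_ext hNG hinv hq hα (hHq hI) ((hx ▸ ext_dt hov hq hnd hNH hHI hk').pow m))

end Cfsg.Agent.Lib.Char.RelGraph
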